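import Cfsg.Agent.Lib.Spor.SuzThree.AutCheck

/-!
# The automorphisms of the graph fixing a point
-/

set_option autoImplicit false
set_option maxRecDepth 100000

namespace CfsgLib.Spor.SuzThree

open CfsgLib.Spor.TC AutData

theorem memNat_complete' {x : ℕ} : ∀ {l : List ℕ}, x ∈ l → memNat x l = true := by
  intro l
  induction l with
  | nil => intro h; cases h
  | cons a l ih =>
    intro h
    change (Nat.beq a x || memNat x l) = true
    rcases List.mem_cons.1 h with rfl | h
    · simp [Nat.beq_refl]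
    · simp [ih h]

/-- The automorphisms of the graph fixing the listed points. -/
noncomputable def FixL (l : List ℕ) : Subgroup (Equiv.Perm V) where
  carrier := {σ | (∀ x y, Adj SuzP (σ x) (σ y) ↔ Adj SuzP x y) ∧ ∀ a ∈ l, σ (pt a) = pt a}
  one_mem' := ⟨fun _ _ => Iff.rfl, fun _ _ => rfl⟩
  mul_mem' := fun {σ τ} hσ hτ => ⟨fun x y => (hσ.1 _ _).trans (hτ.1 x y), fun a ha => by
    rw [Equiv.Perm.mul_apply, hτ.2 a ha, hσ.2 a ha]⟩
  inv_mem' := fun {σ} hσ => ⟨fun x y => by rw [← hσ.1 (σ⁻¹ x) (σ⁻¹ y)]; simp, fun a ha => by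
    rw [Equiv.Perm.inv_eq_iff_eq, hσ.2 a ha]⟩

theorem mem_FixL {σ : Equiv.Perm V} {l : List ℕ} :
    σ ∈ FixL l ↔ (∀ x y, Adj SuzP (σ x) (σ y) ↔ Adj SuzP x y) ∧ ∀ a ∈ l, σ (pt a) = pt a := Iff.rfl

/-- A predicate unchanged by the automorphisms fixing the listed points. -/
def Inv (l : List ℕ) (P : ℕ → Bool) : Prop := ∀ σ ∈ FixL l, ∀ z : V, P (σ z).1 = P z.1

theorem adjB_inv {σ : Equiv.Perm V} {l : List ℕ} (hσ : σ ∈ FixL l) (x y : V) :
    adjB (σ x).1 (σ y).1 = adjB x.1 y.1 := by
  refine Bool.eq_iff_iff.2 ?_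
  rw [adjB_iff (σ x).2 (σ y).2, adjB_iff x.2 y.2, pt_self, pt_self, pt_self, pt_self]
  exact hσ.1 x y

theorem inCell_inv {l : List ℕ} (hl : ∀ a ∈ l, a < 1782) (c : ℕ) : Inv l (inCell l c) := by
  intro σ hσ z
  have hfix : ∀ a ∈ l, (a = (σ z).1 ↔ a = z.1) := fun a ha => by
    have e := hσ.2 a ha
    constructor
    · intro h
      have : σ z = σ (pt a) := by rw [e]; exact Fin.ext (h.symm.trans (pt_val (hl a ha)).symm)
      rw [σ.injective this, pt_val (hl a ha)]
    · intro h
      have : pt a = z := Fin.ext ((pt_val (hl a ha)).trans h)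
      rw [← this, e, pt_val (hl a ha)]
  have hmem : memNat (σ z).1 l = memNat z.1 l := by
    refine Bool.eq_iff_iff.2 ⟨fun h => ?_, fun h => ?_⟩
    · have h' := memNat_spec h
      exact memNat_complete' (((hfix _ h').1 rfl) ▸ h')
    · have h' := memNat_spec h
      exact memNat_complete' (((hfix _ h').2 rfl) ▸ h')
  have hsig : ∀ m : List ℕ, (∀ a ∈ m, a ∈ l) → sigCode m (σ z).1 = sigCode m z.1 := by
    intro m
    induction m with
    | nil => intro _; rfl
    | cons a m ih =>
      intro h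
      show Nat.add _ _ = Nat.add _ _
      have ha := h a List.mem_cons_self
      have e : adjB a (σ z).1 = adjB a z.1 := by
        have := adjB_inv hσ (pt a) z
        rwa [hσ.2 a ha, pt_val (hl a ha)] at this
      rw [e]
      congr 2
      exact ih fun b hb => h b (List.mem_cons_of_mem _ hb)
  show (!(memNat _ l) && Nat.beq (sigCode l _) c) = (!(memNat _ l) && Nat.beq (sigCode l _) c)
  rw [hmem, hsig l fun a h => h]

theorem mem_maskList {m z : ℕ} : z ∈ maskList m ↔ z < 1782 ∧ bitB m z = true := by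
  simp [maskList, bitB, List.mem_filter]

theorem mask_spec {l : List ℕ} {p : ℕ × ℕ} (h : maskOK l p = true) (z : ℕ) (hz : z < 1782) :
    bitB p.2 z = inCell l p.1 z :=
  beq_iff_eq.1 (allFrom_spec h z (Nat.zero_le _) (by omega))

theorem mask_inv {l : List ℕ} (hl : ∀ a ∈ l, a < 1782) {p : ℕ × ℕ} (h : maskOK l p = true) :
    Inv l (bitB p.2) := fun σ hσ z => by
  rw [mask_spec h _ (σ z).2, mask_spec h _ z.2, inCell_inv hl p.1 σ hσ z]

theorem card_step (l : List ℕ) (b : ℕ) (tgt : List ℕ) (h : ∀ σ ∈ FixL l, (σ (pt b)).1 ∈ tgt) :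
    Nat.card (FixL l) ≤ tgt.length * Nat.card (FixL (l ++ [b])) := by
  classical
  have e := Nat.card_congr (MulAction.orbitProdStabilizerEquivGroup (FixL l) (pt b))
  rw [Nat.card_prod] at e
  rw [← e]
  refine Nat.mul_le_mul ?_ ?_
  · refine le_trans ?_ (List.toFinset_card_le tgt)
    let f : MulAction.orbit (FixL l) (pt b) → {q // q ∈ tgt.toFinset} := fun o => ⟨o.1.1, by
      obtain ⟨⟨σ, hσ⟩, ho⟩ := o.2
      rw [List.mem_toFinset, ← ho]
      exact h σ hσ⟩
    have hf : Function.Injective f := fun o o' e => Subtype.ext (Fin.ext (Subtype.ext_iff.1 e))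
    refine (Nat.card_le_card_of_injective f hf).trans_eq ?_
    rw [Nat.card_eq_fintype_card, Fintype.card_coe]
  · let f : MulAction.stabilizer (FixL l) (pt b) → FixL (l ++ [b]) := fun σ => ⟨σ.1.1, σ.1.2.1, fun a ha => by
      rcases List.mem_append.1 ha with h | h
      · exact σ.1.2.2 a h
      · rw [List.mem_singleton.1 h]; exact σ.2⟩
    have hf : Function.Injective f := fun o o' e => Subtype.ext (Subtype.ext (congrArg Subtype.val e :))
    exact Nat.card_le_card_of_injective f hf

theorem chain_le : ∀ (ss : List (ℕ × ℕ × ℕ)) (l : List ℕ), chainOK ss l = true → (∀ a ∈ l, a < 1782) →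
    Nat.card (FixL l) ≤ cellsProd ss * Nat.card (FixL fixedAll) ∧ ∀ a ∈ fixedAll, a < 1782 := by
  intro ss
  induction ss with
  | nil =>
    intro l h hl
    obtain rfl : l = fixedAll := beqWord_iff h
    exact ⟨by simp [cellsProd], hl⟩
  | cons s ss ih =>
    intro l h hl
    change (maskOK l (s.1, s.2.1) && bitB s.2.1 s.2.2 && Nat.blt s.2.2 1782 && chainOK ss (l ++ [s.2.2])) = true at h
    simp only [Bool.and_eq_true] at h
    obtain ⟨⟨⟨hm, hb⟩, hlt⟩, hrest⟩ := h
    have hb' : s.2.2 < 1782 := Nat.le_of_ble_eq_true hlt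
    obtain ⟨h1, h2⟩ := ih (l ++ [s.2.2]) hrest fun a ha => by
      rcases List.mem_append.1 ha with h | h
      · exact hl a h
      · rw [List.mem_singleton.1 h]; exact hb'
    refine ⟨?_, h2⟩
    have t1 := card_step l s.2.2 (maskList s.2.1) fun σ hσ => mem_maskList.2 ⟨(σ (pt s.2.2)).2, by
      rw [mask_inv hl hm σ hσ, pt_val hb', hb]⟩
    rw [cellsProd, List.map_cons, List.prod_cons, mul_assoc]
    exact t1.trans (Nat.mul_le_mul_left _ h1)

theorem fixedAll_trivial (hl : ∀ a ∈ fixedAll, a < 1782) : FixL fixedAll = ⊥ := by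
  refine (Subgroup.eq_bot_iff_forall _).2 fun σ hσ => Equiv.ext fun z => ?_
  have hrow : ∀ i < 1782, sortPt.get 16 i < 1782 ∧ sortRank.get 16 (sortPt.get 16 i) = i ∧
      (i = 0 ∨ sigCode fixedAll (sortPt.get 16 (i - 1)) < sigCode fixedAll (sortPt.get 16 i)) := fun i hi => by
    have h := allFrom_spec sort_ok i (Nat.zero_le _) (by omega)
    simp only [Bool.and_eq_true, Bool.or_eq_true] at h
    exact ⟨Nat.le_of_ble_eq_true h.1.1, Nat.eq_of_beq_eq_true h.1.2,
      h.2.imp (fun e => Nat.eq_of_beq_eq_true e) (fun e => Nat.le_of_ble_eq_true e)⟩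
  let φ : Fin 1782 → V := fun i => ⟨sortPt.get 16 i.1, (hrow i.1 i.2).1⟩
  have hφ : Function.Injective φ := fun i j e => Fin.ext (by
    rw [← (hrow i.1 i.2).2.1, ← (hrow j.1 j.2).2.1]
    exact congrArg _ (congrArg Fin.val e))
  have hmono : ∀ j < 1782, ∀ i < j, sigCode fixedAll (sortPt.get 16 i) < sigCode fixedAll (sortPt.get 16 j) := by
    intro j
    induction j with
    | zero => intro _ i hi; omega
    | succ j ih =>
      intro hj i hi
      have h := (hrow (j + 1) hj).2.2.resolve_left (Nat.succ_ne_zero j)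
      rw [Nat.add_sub_cancel] at h
      rcases Nat.lt_succ_iff_lt_or_eq.1 hi with h' | rfl
      · exact (ih (Nat.lt_of_succ_lt hj) i h').trans h
      · exact h
  obtain ⟨i, hi⟩ := (Finite.injective_iff_surjective.1 hφ) z
  obtain ⟨j, hj⟩ := (Finite.injective_iff_surjective.1 hφ) (σ z)
  have hsame : ∀ m : List ℕ, (∀ a ∈ m, a ∈ fixedAll) → sigCode m (σ z).1 = sigCode m z.1 := by
    intro m
    induction m with
    | nil => intro _; rfl
    | cons a m ih =>
      intro h
      show Nat.add _ _ = Nat.add _ _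
      have ha := h a List.mem_cons_self
      have e : adjB a (σ z).1 = adjB a z.1 := by
        have := adjB_inv hσ (pt a) z
        rwa [hσ.2 a ha, pt_val (hl a ha)] at this
      rw [e]
      congr 2
      exact ih fun b hb => h b (List.mem_cons_of_mem _ hb)
  have he := hsame fixedAll fun a h => h
  rw [← hj, ← hi] at he
  change sigCode fixedAll (sortPt.get 16 j.1) = sigCode fixedAll (sortPt.get 16 i.1) at he
  rcases lt_trichotomy i.1 j.1 with h | h | h
  · exact absurd he (hmono _ j.2 _ h).ne'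
  · rw [Equiv.Perm.one_apply, ← hj, ← hi, Fin.ext h]
  · exact absurd he (hmono _ i.2 _ h).ne

/-- **At most 503193600 automorphisms of the graph fix a point.** -/
theorem card_FixL_le : Nat.card (FixL [0]) ≤ 503193600 := by
  obtain ⟨h1, h2⟩ := chain_le steps [0] chain_ok (by decide)
  refine h1.trans (le_of_eq ?_)
  rw [fixedAll_trivial h2, Subgroup.card_bot, mul_one, Nat.eq_of_beq_eq_true prod_ok]

end CfsgLib.Spor.SuzThree
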