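import Cfsg.Agent.Lib.Spor.SuzThree.AutDefs

/-!
# The checks of the cells
-/

set_option autoImplicit false
set_option maxRecDepth 100000

namespace CfsgLib.Spor.SuzThree

open CfsgLib.Spor.TC AutData

theorem chain_ok : chainOK steps [0] = true := by decide +kernel

theorem prod_ok : Nat.beq (cellsProd steps) 503193600 = true := by decide +kernel

theorem sort_ok : allFrom (fun i => Nat.blt (sortPt.get 16 i) 1782 && Nat.beq (sortRank.get 16 (sortPt.get 16 i)) i &&
    (Nat.beq i 0 || Nat.blt (sigCode fixedAll (sortPt.get 16 (Nat.sub i 1))) (sigCode fixedAll (sortPt.get 16 i))))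
    0 1782 = true := by
  decide +kernel

end CfsgLib.Spor.SuzThree
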