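import Cfsg.Agent.Lib.Spor.SuzThree.Graph
import Cfsg.Agent.Lib.Spor.SuzThree.AutData

/-!
# Cells of the graph cut out by adjacency to fixed points
-/

set_option autoImplicit false
set_option maxRecDepth 100000

namespace CfsgLib.Spor.SuzThree

open CfsgLib.Spor.TC

/-- The bit of a number at a place. -/
noncomputable def bitB (m z : ℕ) : Bool := Nat.beq (Nat.land (Nat.shiftRight m z) 1) 1

/-- The adjacencies to a list of points. -/
noncomputable def sigCode (l : List ℕ) (z : ℕ) : ℕ :=
  List.rec (motive := fun _ => ℕ) 0 (fun x _ ih => Nat.add (Bool.rec 0 1 (adjB x z)) (Nat.mul 2 ih)) l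

/-- The cell of a code. -/
noncomputable def inCell (l : List ℕ) (c z : ℕ) : Bool := !(memNat z l) && Nat.beq (sigCode l z) c

/-- The mask of a cell is right. -/
noncomputable def maskOK (l : List ℕ) (p : ℕ × ℕ) : Bool :=
  allFrom (fun z => bitB p.2 z == inCell l p.1 z) 0 1782

/-- The points of a mask. -/
def maskList (m : ℕ) : List ℕ := (List.range 1782).filter fun z => Nat.beq (Nat.land (Nat.shiftRight m z) 1) 1

/-- The checks of a chain of cells, the fixed points growing. -/
noncomputable def chainOK (ss : List (ℕ × ℕ × ℕ)) (l : List ℕ) : Bool :=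
  List.rec (motive := fun _ => List ℕ → Bool) (fun l => beqWord l AutData.fixedAll)
    (fun s _ ih l => maskOK l (s.1, s.2.1) && bitB s.2.1 s.2.2 && Nat.blt s.2.2 1782 && ih (l ++ [s.2.2])) ss l

/-- The product of the lengths of the cells of a chain. -/
def cellsProd (ss : List (ℕ × ℕ × ℕ)) : ℕ := (ss.map fun s => (maskList s.2.1).length).prod

end CfsgLib.Spor.SuzThree
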