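import Cfsg.Agent.Lib.Spor.SuzThree.FlagDefs

/-!
# The checks of the flags, part 3
-/

set_option autoImplicit false
set_option maxRecDepth 100000
set_option Elab.async false

namespace CfsgLib.Spor.SuzThree.FlagData

open CfsgLib.Spor.TC

theorem lnext0 : allFrom lnextB 0 455 = true := by decide +kernel
theorem lnext1 : allFrom lnextB 455 455 = true := by decide +kernel
theorem lnext2 : allFrom lnextB 910 455 = true := by decide +kernel

end CfsgLib.Spor.SuzThree.FlagData
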