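import Cfsg.Agent.Lib.Spor.SuzThree.FlagDefs

/-!
# The checks of the flags, part 4
-/

set_option autoImplicit false
set_option maxRecDepth 100000
set_option Elab.async false

namespace CfsgLib.Spor.SuzThree.FlagData

open CfsgLib.Spor.TC

theorem lines_ok : allFrom lineB 0 1365 = true := by decide +kernel

theorem spread_ok : spreadB = true := by decide +kernel

theorem misc_ok : miscB = true := by decide +kernel

theorem sTree0 : allFrom sTree.rowB 0 2048 = true := by decide +kernel

theorem sTree1 : allFrom sTree.rowB 2048 2048 = true := by decide +kernel

/-- The small classes are listed. -/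
theorem small_listed : allFrom (fun q => !(Nat.blt (cls.get 8 q) 5) || memNat q (members (cls.get 8 q))) 0 6825
    = true := by decide +kernel

end CfsgLib.Spor.SuzThree.FlagData
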