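import Cfsg.Agent.Lib.Spor.SuzThree.Model
import Cfsg.Agent.Lib.Spor.SuzThree.FlagData

/-!
# Flags of the point stabiliser
-/

set_option autoImplicit false
set_option maxRecDepth 100000

namespace CfsgLib.Spor.SuzThree

open CfsgLib.Spor.TC

/-- A flag: a point and a line. -/
abbrev Flag : Type := V × Finset V

/-- The image of a set of points. -/
noncomputable def img (g : Equiv.Perm V) (s : Finset V) : Finset V := s.image g

theorem img_one (s : Finset V) : img 1 s = s := by simp [img]

theorem img_mul (g h : Equiv.Perm V) (s : Finset V) : img (g * h) s = img g (img h s) := by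
  simp [img, Finset.image_image]

theorem img_inv {g : Equiv.Perm V} {s t : Finset V} (h : img g s = t) : img g⁻¹ t = s := by
  rw [← h, ← img_mul, inv_mul_cancel, img_one]

/-- The action on flags. -/
noncomputable def fact (g : Equiv.Perm V) (f : Flag) : Flag := (g f.1, img g f.2)

theorem fact_one (f : Flag) : fact 1 f = f := by simp [fact, img_one]

theorem fact_mul (g h : Equiv.Perm V) (f : Flag) : fact (g * h) f = fact g (fact h f) := by
  simp [fact, img_mul]

theorem fact_inv {g : Equiv.Perm V} {f f' : Flag} (h : fact g f = f') : fact g⁻¹ f' = f := by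
  rw [← h, ← fact_mul, inv_mul_cancel, fact_one]

/-- Pairs reached from one pair by words, in increasing order. -/
structure PairTree where
  n : ℕ
  root : ℕ
  x : ℕ → ℕ
  y : ℕ → ℕ
  par : ℕ → ℕ
  lt : ℕ → ℕ
  dep : ℕ → ℕ
  words : List (List ℕ)

/-- The check of a tree of pairs at one index. -/
noncomputable def PairTree.rowB (P : PairTree) (i : ℕ) : Bool :=
  Nat.blt (P.x i) 1782 && Nat.blt (P.y i) 1782 &&
    (Nat.beq i 0 || Nat.blt (Nat.add (Nat.mul (P.x (Nat.sub i 1)) 4096) (P.y (Nat.sub i 1)))
      (Nat.add (Nat.mul (P.x i) 4096) (P.y i))) &&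
    (Nat.beq i P.root || Nat.blt (P.par i) P.n && Nat.blt (P.dep (P.par i)) (P.dep i) &&
      Nat.blt (P.lt i) P.words.length &&
      Nat.beq (wv (P.words.getD (P.lt i) []) (P.x (P.par i))) (P.x i) &&
      Nat.beq (wv (P.words.getD (P.lt i) []) (P.y (P.par i))) (P.y i))

/-- The check of the letters of the words of a tree. -/
def PairTree.wordsB (P : PairTree) : Bool := P.words.all fun w => w.all fun a => decide (a < 10)

namespace FlagData

/-- A point of a line. -/
noncomputable def qq (j l : ℕ) : ℕ :=
  Bool.rec (Bool.rec (Bool.rec (Bool.rec (q4.get 16 l) (q3.get 16 l) (Nat.beq j 3)) (q2.get 16 l) (Nat.beq j 2))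
    (q1.get 16 l) (Nat.beq j 1)) (q0.get 16 l) (Nat.beq j 0)

/-- The five points of a line. -/
noncomputable def ql (l : ℕ) : List ℕ := [q0.get 16 l, q1.get 16 l, q2.get 16 l, q3.get 16 l, q4.get 16 l]

/-- The line with an index. -/
noncomputable def lineSet (l : ℕ) : Finset V := ((ql l).map pt).toFinset

/-- The point of a flag. -/
noncomputable def point (i : ℕ) : ℕ := qq (i % 5) (i / 5)

/-- The flag with an index. -/
noncomputable def flag (i : ℕ) : Flag := (pt (point i), lineSet (i / 5))

/-- The successors by the letters of the stabiliser. -/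
noncomputable def nx (j i : ℕ) : ℕ :=
  Bool.rec (Bool.rec (Bool.rec (Bool.rec (Bool.rec (nx5.get 16 i) (nx4.get 16 i) (Nat.beq j 4)) (nx3.get 16 i)
    (Nat.beq j 3)) (nx2.get 16 i) (Nat.beq j 2)) (nx1.get 16 i) (Nat.beq j 1)) (nx0.get 16 i) (Nat.beq j 0)

/-- The successors by the fixing words. -/
noncomputable def sx (j i : ℕ) : ℕ :=
  Bool.rec (Bool.rec (Bool.rec (sx3.get 16 i) (sx2.get 16 i) (Nat.beq j 2)) (sx1.get 16 i) (Nat.beq j 1))
    (sx0.get 16 i) (Nat.beq j 0)

/-- A word maps the line `l` to the line `k`. -/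
noncomputable def lstepB (w : List ℕ) (l k : ℕ) : Bool :=
  allList (fun q => memNat (wv w q) (ql k)) (ql l)

/-- A word maps the flag `i` to the flag `k`. -/
noncomputable def stepB (w : List ℕ) (i k : ℕ) : Bool :=
  Nat.blt k 6825 && Nat.beq (wv w (point i)) (point k) && lstepB w (i / 5) (k / 5)

/-- A word maps the point of the flag `i` to that of `k`, and the line of `k` is the one given. -/
noncomputable def pstepB (w : List ℕ) (i k lk : ℕ) : Bool :=
  Nat.blt k 6825 && Nat.beq (wv w (point i)) (point k) && Nat.beq (k / 5) lk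

/-- The successors of the lines by the letters of the stabiliser. -/
noncomputable def ln (j i : ℕ) : ℕ :=
  Bool.rec (Bool.rec (Bool.rec (Bool.rec (Bool.rec (ln5.get 16 i) (ln4.get 16 i) (Nat.beq j 4)) (ln3.get 16 i)
    (Nat.beq j 3)) (ln2.get 16 i) (Nat.beq j 2)) (ln1.get 16 i) (Nat.beq j 1)) (ln0.get 16 i) (Nat.beq j 0)

/-- The successors of the lines by the fixing words. -/
noncomputable def lx (j i : ℕ) : ℕ :=
  Bool.rec (Bool.rec (Bool.rec (lx3.get 16 i) (lx2.get 16 i) (Nat.beq j 2)) (lx1.get 16 i) (Nat.beq j 1))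
    (lx0.get 16 i) (Nat.beq j 0)

/-- The code of a line. -/
noncomputable def code (l : ℕ) : ℕ := Nat.add (Nat.mul (q0.get 16 l) 4096) (q1.get 16 l)

/-- The successor along a word. -/
noncomputable def spath (w : List ℕ) (i : ℕ) : ℕ :=
  List.rec (motive := fun _ => ℕ) i (fun a _ ih => sx a ih) w

/-- The check at one line. -/
noncomputable def lineB (l : ℕ) : Bool :=
  Nat.blt (q0.get 16 l) (q1.get 16 l) && Nat.blt (q1.get 16 l) (q2.get 16 l) &&
    Nat.blt (q2.get 16 l) (q3.get 16 l) && Nat.blt (q3.get 16 l) (q4.get 16 l) && Nat.blt (q4.get 16 l) 1782 &&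
    (Nat.beq l 0 || Nat.blt (code (Nat.sub l 1)) (code l))

/-- The check of the successors of one line. -/
noncomputable def lnextB (l : ℕ) : Bool :=
  lstepB [0] l (ln 0 l) && lstepB [1] l (ln 1 l) && lstepB [2] l (ln 2 l) && lstepB [3] l (ln 3 l) &&
    lstepB [4] l (ln 4 l) && lstepB [5] l (ln 5 l) &&
    lstepB (sWords.getD 0 []) l (lx 0 l) && lstepB (sWords.getD 1 []) l (lx 1 l) &&
    lstepB (sWords.getD 2 []) l (lx 2 l) && lstepB (sWords.getD 3 []) l (lx 3 l)

/-- The check at one flag. -/
noncomputable def rowB (i : ℕ) : Bool :=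
  pstepB [0] i (nx 0 i) (ln 0 (i / 5)) && pstepB [1] i (nx 1 i) (ln 1 (i / 5)) && pstepB [2] i (nx 2 i) (ln 2 (i / 5)) && pstepB [3] i (nx 3 i) (ln 3 (i / 5)) &&
    pstepB [4] i (nx 4 i) (ln 4 (i / 5)) && pstepB [5] i (nx 5 i) (ln 5 (i / 5)) &&
    (Nat.beq i root || Nat.blt (par.get 16 i) 6825 && Nat.blt (depth.get 8 (par.get 16 i)) (depth.get 8 i) &&
      Nat.blt (plet.get 8 i) 6 && Nat.beq (nx (plet.get 8 i) (par.get 16 i)) i) &&
    pstepB (sWords.getD 0 []) i (sx 0 i) (lx 0 (i / 5)) && pstepB (sWords.getD 1 []) i (sx 1 i) (lx 1 (i / 5)) &&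
    pstepB (sWords.getD 2 []) i (sx 2 i) (lx 2 (i / 5)) && pstepB (sWords.getD 3 []) i (sx 3 i) (lx 3 (i / 5)) &&
    Nat.blt (cls.get 8 i) 12 && Nat.blt (slet.get 8 i) 4 &&
    (Nat.beq i (reps.getD (cls.get 8 i) 0) ||
      Nat.blt (sdepth.get 8 (sx (slet.get 8 i) i)) (sdepth.get 8 i) &&
        Nat.beq (cls.get 8 (sx (slet.get 8 i) i)) (cls.get 8 i))

/-- The list has no repetitions. -/
noncomputable def nodupB (l : List ℕ) : Bool :=
  List.rec (motive := fun _ => Bool) true (fun a t ih => !(memNat a t) && ih) l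

theorem memNat_complete {x : ℕ} : ∀ {l : List ℕ}, x ∈ l → memNat x l = true := by
  intro l
  induction l with
  | nil => intro h; cases h
  | cons a l ih =>
    intro h
    change (Nat.beq a x || memNat x l) = true
    rcases List.mem_cons.1 h with rfl | h
    · simp [Nat.beq_refl]
    · simp [ih h]

theorem nodupB_spec : ∀ {l : List ℕ}, nodupB l = true → l.Nodup := by
  intro l
  induction l with
  | nil => intro _; exact List.nodup_nil
  | cons a t ih =>
    intro h
    change (!(memNat a t) && nodupB t) = true at h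
    simp only [Bool.and_eq_true, Bool.not_eq_true'] at h
    exact List.nodup_cons.2 ⟨fun hm => by simp [memNat_complete hm] at h, ih h.2⟩

/-- The listed flags of a class. -/
noncomputable def members (c : ℕ) : List ℕ := (spread.getD c []).map fun w => spath w (reps.getD c 0)

/-- The spread of the classes. -/
noncomputable def spreadB : Bool :=
  allFrom (fun c =>
    nodupB (members c) && allList (fun k => Nat.beq (cls.get 8 k) c) (members c) &&
    ((spread.getD c []).all fun w => w.all fun a => Nat.blt a 4) &&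
    Nat.blt (reps.getD c 0) 6825 &&
    Nat.beq (members c).length ([1, 4, 4, 16, 16].getD c 45)) 0 12

/-- A word maps one list into another. -/
noncomputable def intoB (w A B : List ℕ) : Bool := allList (fun q => memNat (wv w q) B) A

/-- A word fixes the partition into two lists. -/
noncomputable def fixPartB (w A B : List ℕ) : Bool := intoB w A A && intoB w B B || intoB w A B && intoB w B A

/-- The images of the first part by two words are different, also after a swap. -/
noncomputable def apartB (u v A B : List ℕ) : Bool :=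
  !(intoB u A (A.map (wv v))) && !(intoB u A (B.map (wv v)))

/-- The single facts about the flags. -/
noncomputable def miscB : Bool :=
  Nat.beq root 0 && Nat.beq (point root) 1 &&
    (sWords.all fun w => (w.all fun a => Nat.blt a 6) && stepB w root root &&
      fixPartB w (parts.getD 0 []) (parts.getD 1 []) && fixPartB w (parts.getD 2 []) (parts.getD 3 [])) &&
    Nat.beq sWords.length 4 &&
    (nine.all fun w => (w.all fun a => Nat.blt a 6) && stepB w root root) && Nat.beq nine.length 9 &&
    ((List.range 9).all fun i => (List.range 9).all fun j => Nat.beq i j ||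
      apartB (nine.getD i []) (nine.getD j []) (parts.getD 0 []) (parts.getD 1 []) ||
      apartB (nine.getD i []) (nine.getD j []) (parts.getD 2 []) (parts.getD 3 [])) &&
    ((List.range 4).all fun k => nodupB (parts.getD k []) && (parts.getD k []).all fun q => Nat.blt q 1782) &&
    Nat.beq (parts.getD 0 []).length (parts.getD 1 []).length &&
    Nat.beq (parts.getD 2 []).length (parts.getD 3 []).length && Nat.blt pairRoot 4096

/-- The pairs of the Sylow subgroup. -/
noncomputable def sTree : PairTree :=
  ⟨4096, pairRoot, tX.get 16, tY.get 16, tPar.get 16, tLet.get 8, tDep.get 8, sWords⟩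

end FlagData

end CfsgLib.Spor.SuzThree
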