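import Cfsg.Agent.Lib.Spor.SuzThree.Model
import Cfsg.Agent.Lib.Spor.SuzThree.GraphData
import Mathlib.Combinatorics.Enumerative.DoubleCounting

/-!
# The graph of a rank three group on 1782 points is the graph of the model
-/

set_option autoImplicit false
set_option maxRecDepth 100000

namespace CfsgLib.Spor.SuzThree

open CfsgLib.Spor.TC CfsgLib.Spor.Suz
open GraphData

/-- A transitive group with the point stabiliser of the model. -/
structure Setting (G : Subgroup (Equiv.Perm V)) : Prop where
  trans : ∀ x : V, ∃ g ∈ G, g 0 = x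
  stab : ∀ g ∈ G, (g 0 = 0 ↔ g ∈ X)
  le : X ≤ G

theorem setting_SuzP : Setting SuzP :=
  ⟨fun x => SuzP_trans 0 x, fun g hg => suborbit_stab g hg, X_le_SuzP⟩

/-- The orbital of the orbit of 416 points. -/
def Adj (G : Subgroup (Equiv.Perm V)) (x y : V) : Prop := ∃ g ∈ G, g 0 = x ∧ InN (g⁻¹ y)

namespace Setting

variable {G : Subgroup (Equiv.Perm V)} (S : Setting G)
include S

theorem adj_zero (y : V) : Adj G 0 y ↔ InN y := by
  constructor
  · rintro ⟨g, hg, h0, hy⟩
    exact (inN_map (inv_mem ((S.stab g hg).1 h0)) y).1 hy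
  · exact fun h => ⟨1, one_mem _, rfl, by simpa using h⟩

omit S in
theorem adj_map {h : Equiv.Perm V} (hh : h ∈ G) (x y : V) : Adj G (h x) (h y) ↔ Adj G x y := by
  constructor
  · rintro ⟨g, hg, h0, hy⟩
    exact ⟨h⁻¹ * g, mul_mem (inv_mem hh) hg, by simp [h0], by simpa using hy⟩
  · rintro ⟨g, hg, h0, hy⟩
    exact ⟨h * g, mul_mem hh hg, by simp [h0], by simpa using hy⟩

omit S in
/-- The out-neighbourhood. -/
noncomputable def out (G : Subgroup (Equiv.Perm V)) (x : V) : Finset V := by
  classical exact Finset.univ.filter fun y => Adj G x y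

omit S in
theorem mem_out {x y : V} : y ∈ out G x ↔ Adj G x y := by
  classical
  simp [out]

omit S in
theorem out_map {h : Equiv.Perm V} (hh : h ∈ G) (x : V) : out G (h x) = (out G x).image h := by
  ext y
  simp only [Finset.mem_image, mem_out]
  refine ⟨fun hy => ⟨h⁻¹ y, ?_, by simp⟩, ?_⟩
  · rw [← adj_map hh]; simpa using hy
  · rintro ⟨z, hz, rfl⟩; exact (adj_map hh x z).2 hz

theorem card_out (x : V) : (out G x).card = 416 := by
  classical
  obtain ⟨g, hg, rfl⟩ := S.trans x
  rw [out_map hg, Finset.card_image_of_injective _ g.injective, ← ncard_N, ← Set.ncard_coe_finset]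
  exact congrArg Set.ncard (Set.ext fun y => by simp [mem_out, S.adj_zero])

theorem adj_symm_zero (y : V) : Adj G y 0 ↔ InN y := by
  classical
  let R : Finset V := Finset.univ.filter fun z => Adj G z 0
  have hR : ∀ z, z ∈ R ↔ Adj G z 0 := fun z => by simp [R]
  have hin : ∀ g ∈ G, (Finset.univ.filter fun z => Adj G z (g 0)) = R.image g := fun g hg => by
    ext z
    simp only [Finset.mem_filter, Finset.mem_univ, true_and, Finset.mem_image, hR]
    refine ⟨fun hz => ⟨g⁻¹ z, ?_, by simp⟩, ?_⟩
    · rw [← adj_map hg]; simpa using hz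
    · rintro ⟨w, hw, rfl⟩; exact (adj_map hg w 0).2 hw
  have hcard : R.card = 416 := by
    have h := Finset.sum_card_bipartiteAbove_eq_sum_card_bipartiteBelow (s := (Finset.univ : Finset V))
      (t := (Finset.univ : Finset V)) (Adj G)
    rw [Finset.sum_congr rfl (g := fun _ => 416) (fun x _ => (by
        rw [← S.card_out x]; exact congrArg Finset.card (Finset.ext fun y => by
          simp [Finset.bipartiteAbove, mem_out]) : _ = 416)),
      Finset.sum_congr rfl (s₁ := (Finset.univ : Finset V))
        (f := fun b => (Finset.bipartiteBelow (Adj G) Finset.univ b).card) (g := fun _ => R.card) (fun x _ => by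
        obtain ⟨g, hg, rfl⟩ := S.trans x
        rw [show Finset.bipartiteBelow (Adj G) Finset.univ (g 0) = R.image g from hin g hg,
          Finset.card_image_of_injective _ g.injective])] at h
    simp only [Finset.sum_const, Finset.card_univ, Fintype.card_fin, smul_eq_mul] at h
    omega
  have h0 : (0 : V) ∉ R := fun h => by
    have := (S.adj_zero 0).1 ((hR 0).1 h)
    rcases partition 0 with ⟨-, -, hn⟩ | ⟨hne, -⟩
    · exact hn this
    · exact hne rfl
  have hinv : ∀ g ∈ X, ∀ z, z ∈ R → g z ∈ R := fun g hg z hz => by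
    rw [hR] at hz ⊢
    rw [← X_fix hg]; exact (adj_map (S.le hg) z 0).2 hz
  have hM : ∀ z ∈ R, ¬ InM z := by
    intro z hz hm
    obtain ⟨g, hg, rfl⟩ := (inM_iff z).1 hm
    have hsub : {c : V | InM c} ⊆ (R : Set V) := fun c hc => by
      obtain ⟨k, hk, rfl⟩ := (inM_iff c).1 hc
      have := hinv (k * g⁻¹) (mul_mem hk (inv_mem hg)) _ hz
      simpa using this
    have := Set.ncard_le_ncard hsub
    rw [ncard_M, Set.ncard_coe_finset, hcard] at this
    omega
  have hsub : (R : Set V) ⊆ {c : V | InN c} := fun c hc => by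
    rcases partition c with ⟨rfl, -, -⟩ | ⟨-, ⟨hm, -⟩ | ⟨hn, -⟩⟩
    · exact absurd hc h0
    · exact absurd hm (hM c hc)
    · exact hn
  have heq := Set.eq_of_subset_of_ncard_le hsub (by rw [ncard_N, Set.ncard_coe_finset, hcard])
  rw [← hR y]
  exact Set.ext_iff.1 heq y

theorem adj_symm (x y : V) : Adj G x y ↔ Adj G y x := by
  obtain ⟨g, hg, rfl⟩ := S.trans x
  have e : y = g (g⁻¹ y) := by simp
  rw [e, adj_map hg, adj_map hg, S.adj_zero, S.adj_symm_zero]

end Setting

/-- The check of a table of classes at one point. -/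
noncomputable def classB (cls dep lt : ℕ → ℕ) (reps : List ℕ) (ws : List (List ℕ)) (b c : ℕ) : Bool :=
  Nat.blt (cls c) reps.length && Nat.blt (lt c) ws.length &&
    (Nat.beq c (reps.getD (cls c) 0) ||
      Nat.blt (dep (wv (ws.getD (lt c) []) c)) (dep c) && Nat.beq (cls (wv (ws.getD (lt c) []) c)) (cls c)) &&
    (ws.all fun w => (w.all fun a => Nat.blt a 10) && Nat.beq (wv w 0) 0 && Nat.beq (wv w b) b)

theorem nClass_ok : allFrom (classB (nCls.get 8) (nDep.get 8) (nLet.get 8) nReps nWords 47) 0 1782 = true := by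
  decide +kernel

theorem mClass_ok : allFrom (classB (mCls.get 8) (mDep.get 8) (mLet.get 8) mReps mWords 1) 0 1782 = true := by
  decide +kernel

theorem counts_ok : ((List.range 6).all (fun k =>
      Nat.beq ((List.range 1782).countP fun c => Nat.beq (nCls.get 8 c) k) (nSizes.getD k 0) &&
      Nat.beq ((List.range 1782).countP fun c => Nat.beq (nCls.get 8 c) k && Act0.part1.memB c)
        ([0, 0, 0, 0, 315, 1050].getD k 0)) &&
    (List.range 7).all (fun k =>
      Nat.beq ((List.range 1782).countP fun c => Nat.beq (mCls.get 8 c) k) (mSizes.getD k 0) &&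
      Nat.beq ((List.range 1782).countP fun c => Nat.beq (mCls.get 8 c) k && Act0.part2.memB c)
        ([0, 0, 96, 320, 0, 0, 0].getD k 0)) &&
    Nat.beq (nReps.getD 0 1) 0 && Nat.beq (nReps.getD 1 0) 47 && Nat.beq (mReps.getD 0 1) 0 &&
    Nat.beq (mReps.getD 1 0) 1 && Act0.part2.memB (nReps.getD 2 0) && Act0.part1.memB (mReps.getD 5 0)) = true := by
  decide +kernel

theorem rep_iff {G : Subgroup (Equiv.Perm V)} (S : Setting G) {cls dep lt : ℕ → ℕ} {reps : List ℕ}
    {ws : List (List ℕ)} {b : ℕ} (hb : b < 1782) (h : allFrom (classB cls dep lt reps ws b) 0 1782 = true) :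
    ∀ c < 1782, (Adj G (pt b) (pt c) ↔ Adj G (pt b) (pt (reps.getD (cls c) 0))) := by
  intro c
  induction' hd : dep c using Nat.strong_induction_on with d ih generalizing c
  intro hc
  have h1 := allFrom_spec h c (Nat.zero_le _) (by omega)
  simp only [classB, Bool.and_eq_true, Bool.or_eq_true, List.all_eq_true] at h1
  obtain ⟨⟨⟨-, hl⟩, hstep⟩, hws⟩ := h1
  rcases hstep with e | ⟨e1, e2⟩
  · exact iff_of_eq (congrArg (fun t => Adj G (pt b) (pt t)) (Nat.eq_of_beq_eq_true e))
  · have hwm : ws.getD (lt c) [] ∈ ws := by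
      rw [List.getD_eq_getElem _ _ (Nat.le_of_ble_eq_true hl)]; exact List.getElem_mem _
    obtain ⟨⟨hl10, h0⟩, hfb⟩ := hws _ hwm
    have hl' : ∀ x ∈ ws.getD (lt c) [], x < 10 := fun x hx => Nat.le_of_ble_eq_true (hl10 x hx)
    have hwX : wp (ws.getD (lt c) []) ∈ X :=
      (suborbit_stab _ (wp_mem_SuzP _)).1 (Fin.ext ((wp_apply hl' 0).trans (Nat.eq_of_beq_eq_true h0)))
    obtain ⟨ec, hlt⟩ := wp_pt hl' hc
    have eb : wp (ws.getD (lt c) []) (pt b) = pt b := by
      rw [(wp_pt hl' hb).1, Nat.eq_of_beq_eq_true hfb]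
    have := Setting.adj_map (S.le hwX) (pt b) (pt c)
    rw [eb, ec] at this
    rw [← this, ih _ (hd ▸ Nat.le_of_ble_eq_true e1) _ rfl hlt, Nat.eq_of_beq_eq_true e2]

open scoped Classical in
theorem out_count {G : Subgroup (Equiv.Perm V)} (S : Setting G) {cls dep lt : ℕ → ℕ} {reps : List ℕ}
    {ws : List (List ℕ)} {b : ℕ} (hb : b < 1782) (h : allFrom (classB cls dep lt reps ws b) 0 1782 = true)
    (P : ℕ → Bool) (sizes : ℕ → ℕ)
    (hsz : ∀ k < reps.length, ((List.range 1782).countP fun c => Nat.beq (cls c) k && P c) = sizes k) :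
    ((Setting.out G (pt b)).filter fun y => P y.1 = true).card =
      ∑ k ∈ Finset.range reps.length, if Adj G (pt b) (pt (reps.getD k 0)) then sizes k else 0 := by
  have hcls : ∀ c < 1782, cls c < reps.length := fun c hc => by
    have h1 := allFrom_spec h c (Nat.zero_le _) (by omega)
    simp only [classB, Bool.and_eq_true] at h1
    exact Nat.le_of_ble_eq_true h1.1.1.1
  rw [Finset.card_eq_sum_card_fiberwise (f := fun y => cls y.1) (t := Finset.range reps.length)
    (fun y _ => Finset.mem_range.2 (hcls y.1 y.2))]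
  refine Finset.sum_congr rfl fun k hk => ?_
  have hcnt : ∀ Q : ℕ → Bool, (Finset.univ.filter fun y : V => Q y.1 = true).card =
      (List.range 1782).countP Q := by
    intro Q
    rw [List.countP_eq_length_filter, ← List.toFinset_card_of_nodup (List.nodup_range.filter _),
      ← Finset.card_image_of_injective _ Fin.val_injective]
    congr 1
    ext q
    simp only [Finset.mem_image, Finset.mem_filter, Finset.mem_univ, true_and, List.mem_toFinset, List.mem_filter,
      List.mem_range]
    exact ⟨fun ⟨y, hy, e⟩ => e ▸ ⟨y.2, hy⟩, fun ⟨h1, h2⟩ => ⟨⟨q, h1⟩, h2, rfl⟩⟩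
  split
  · rename_i hadj
    rw [← hsz k (Finset.mem_range.1 hk), ← hcnt]
    congr 1
    ext y
    simp only [Finset.mem_filter, Finset.mem_univ, true_and, Setting.mem_out, Bool.and_eq_true]
    constructor
    · exact fun h => ⟨h.2 ▸ Nat.beq_refl _, h.1.2⟩
    · rintro ⟨h1, h2⟩
      have e := Nat.eq_of_beq_eq_true h1
      refine ⟨⟨?_, h2⟩, e⟩
      have := (rep_iff S hb h y.1 y.2).2 (e.symm ▸ hadj)
      rwa [pt_self] at this
  · rename_i hadj
    refine Finset.card_eq_zero.2 (Finset.filter_eq_empty_iff.2 fun y hy e => hadj ?_)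
    have hy' := (rep_iff S hb h y.1 y.2).1 (by rw [pt_self]; exact Setting.mem_out.1 (Finset.mem_filter.1 hy).1)
    rwa [e] at hy'

theorem counts :
    (∀ k < 6, ((List.range 1782).countP fun c => Nat.beq (nCls.get 8 c) k && true) = nSizes.getD k 0 ∧
      ((List.range 1782).countP fun c => Nat.beq (nCls.get 8 c) k && Act0.part1.memB c) =
        [0, 0, 0, 0, 315, 1050].getD k 0) ∧
    (∀ k < 7, ((List.range 1782).countP fun c => Nat.beq (mCls.get 8 c) k && true) = mSizes.getD k 0 ∧
      ((List.range 1782).countP fun c => Nat.beq (mCls.get 8 c) k && Act0.part2.memB c) =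
        [0, 0, 96, 320, 0, 0, 0].getD k 0) := by
  have h := counts_ok
  simp only [Bool.and_eq_true, List.all_eq_true, List.mem_range] at h
  simp only [Bool.and_true]
  exact ⟨fun k hk => ⟨Nat.eq_of_beq_eq_true (h.1.1.1.1.1.1.1 k hk).1, Nat.eq_of_beq_eq_true (h.1.1.1.1.1.1.1 k hk).2⟩,
    fun k hk => ⟨Nat.eq_of_beq_eq_true (h.1.1.1.1.1.1.2 k hk).1, Nat.eq_of_beq_eq_true (h.1.1.1.1.1.1.2 k hk).2⟩⟩

/-- The classes adjacent to the first base point. -/
def nPattern : List Bool := [true, false, true, false, true, false]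

/-- The classes adjacent to the second base point. -/
def mPattern : List Bool := [false, false, true, false, false, true, false]

/-- The arithmetic of the first pattern. -/
theorem arith_n : ∀ a2 a3 a4 a5 : Bool,
    ((((0 + 1) + 0) + (bif a2 then 100 else 0)) + (bif a3 then 315 else 0)) + (bif a4 then 315 else 0) +
        (bif a5 then 1050 else 0) = 416 →
    a2 = true ∧ a3 = !a4 ∧ a5 = false := by
  decide +kernel

/-- The arithmetic of the second pattern. -/
theorem arith_m : ∀ a4 c2 c3 c4 c5 c6 : Bool,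
    (((((0 + 0) + 0) + (bif c2 then 96 else 0)) + (bif c3 then 320 else 0)) + (bif c4 then 20 else 0)) +
        (bif c5 then 320 else 0) + (bif c6 then 1024 else 0) = 416 →
    416 * (bif a4 then 315 else 0) = 1365 * ((bif c2 then 96 else 0) + (bif c3 then 320 else 0)) →
    a4 = true ∧ c2 = true ∧ c3 = false ∧ c4 = false ∧ c5 = true ∧ c6 = false := by
  decide +kernel

open scoped Classical in
theorem pattern {G : Subgroup (Equiv.Perm V)} (S : Setting G) :
    (∀ k < 6, (Adj G (pt 47) (pt (nReps.getD k 0)) ↔ nPattern.getD k false = true)) ∧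
    (∀ k < 7, (Adj G (pt 1) (pt (mReps.getD k 0)) ↔ mPattern.getD k false = true)) := by
  have hr := counts_ok
  simp only [Bool.and_eq_true] at hr
  have hn0N : InN (pt 47) := (inN_iff n0).2 ⟨1, one_mem _, rfl⟩
  have hm0M : InM (pt 1) := (inM_iff m0).2 ⟨1, one_mem _, rfl⟩
  have n_0 : Adj G (pt 47) (pt (nReps.getD 0 0)) := by
    rw [show pt (nReps.getD 0 0) = (0 : V) from rfl, S.adj_symm_zero]; exact hn0N
  have n_1 : ¬ Adj G (pt 47) (pt (nReps.getD 1 0)) := by
    rw [show pt (nReps.getD 1 0) = pt 47 from rfl]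
    intro h
    obtain ⟨g, hg, hgx⟩ := S.trans (pt 47)
    rw [← hgx] at h
    have := (S.adj_zero 0).1 ((Setting.adj_map hg 0 0).1 h)
    rcases partition 0 with ⟨-, -, hn⟩ | ⟨hne, -⟩
    · exact hn this
    · exact hne rfl
  have m_0 : ¬ Adj G (pt 1) (pt (mReps.getD 0 0)) := by
    rw [show pt (mReps.getD 0 0) = (0 : V) from rfl, S.adj_symm_zero]
    rcases partition (pt 1) with ⟨-, hm, -⟩ | ⟨-, ⟨-, hn⟩ | ⟨-, hm⟩⟩
    exacts [absurd hm0M hm, hn, absurd hm0M hm]
  have m_1 : ¬ Adj G (pt 1) (pt (mReps.getD 1 0)) := by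
    rw [show pt (mReps.getD 1 0) = pt 1 from rfl]
    intro h
    obtain ⟨g, hg, hgx⟩ := S.trans (pt 1)
    rw [← hgx] at h
    have := (S.adj_zero 0).1 ((Setting.adj_map hg 0 0).1 h)
    rcases partition 0 with ⟨-, -, hn⟩ | ⟨hne, -⟩
    · exact hn this
    · exact hne rfl
  have hn := out_count S (by norm_num : 47 < 1782) nClass_ok (fun _ => true) (fun k => nSizes.getD k 0)
    fun k hk => (counts.1 k hk).1
  have hnM := out_count S (by norm_num : 47 < 1782) nClass_ok Act0.part1.memB
    (fun k => [0, 0, 0, 0, 315, 1050].getD k 0) fun k hk => (counts.1 k hk).2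
  have hm := out_count S (by norm_num : 1 < 1782) mClass_ok (fun _ => true) (fun k => mSizes.getD k 0)
    fun k hk => (counts.2 k hk).1
  have hmN := out_count S (by norm_num : 1 < 1782) mClass_ok Act0.part2.memB
    (fun k => [0, 0, 96, 320, 0, 0, 0].getD k 0) fun k hk => (counts.2 k hk).2
  simp only [Finset.filter_true_of_mem (fun _ _ => rfl), S.card_out] at hn hm
  have hedge : 416 * ((Setting.out G (pt 47)).filter fun y => InM y).card =
      1365 * ((Setting.out G (pt 1)).filter fun y => InN y).card := by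
    have h := Finset.sum_card_bipartiteAbove_eq_sum_card_bipartiteBelow
      (s := Finset.univ.filter fun y : V => InN y) (t := Finset.univ.filter fun y : V => InM y) (Adj G)
    have e1 : ∀ x, InN x → (Finset.bipartiteAbove (Adj G) (Finset.univ.filter fun y : V => InM y) x).card =
        ((Setting.out G (pt 47)).filter fun y => InM y).card := by
      intro x hx
      obtain ⟨g, hg, rfl⟩ := (inN_iff x).1 hx
      rw [show Finset.bipartiteAbove (Adj G) (Finset.univ.filter fun y : V => InM y) (g n0) =
        (((Setting.out G (pt 47)).filter fun y => InM y).image g) by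
          ext y
          simp only [Finset.bipartiteAbove, Finset.mem_filter, Finset.mem_univ, true_and, Finset.mem_image,
            Setting.mem_out]
          refine ⟨fun ⟨hy, ha⟩ => ⟨g⁻¹ y, ⟨?_, (inM_map (inv_mem hg) y).2 hy⟩, by simp⟩, ?_⟩
          · rw [← Setting.adj_map (S.le hg)]; simpa [n0] using ha
          · rintro ⟨z, ⟨ha, hz⟩, rfl⟩
            exact ⟨(inM_map hg z).2 hz, (Setting.adj_map (S.le hg) _ _).2 ha⟩,
        Finset.card_image_of_injective _ g.injective]
    have e2 : ∀ x, InM x → (Finset.bipartiteBelow (Adj G) (Finset.univ.filter fun y : V => InN y) x).card =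
        ((Setting.out G (pt 1)).filter fun y => InN y).card := by
      intro x hx
      obtain ⟨g, hg, rfl⟩ := (inM_iff x).1 hx
      rw [show Finset.bipartiteBelow (Adj G) (Finset.univ.filter fun y : V => InN y) (g m0) =
        (((Setting.out G (pt 1)).filter fun y => InN y).image g) by
          ext y
          simp only [Finset.bipartiteBelow, Finset.mem_filter, Finset.mem_univ, true_and, Finset.mem_image,
            Setting.mem_out]
          refine ⟨fun ⟨hy, ha⟩ => ⟨g⁻¹ y, ⟨?_, (inN_map (inv_mem hg) y).2 hy⟩, by simp⟩, ?_⟩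
          · rw [← Setting.adj_map (S.le hg), S.adj_symm]; simpa [m0] using ha
          · rintro ⟨z, ⟨ha, hz⟩, rfl⟩
            exact ⟨(inN_map hg z).2 hz, (S.adj_symm _ _).1 ((Setting.adj_map (S.le hg) _ _).2 ha)⟩,
        Finset.card_image_of_injective _ g.injective]
    rw [Finset.sum_congr rfl (fun x hx => e1 x (Finset.mem_filter.1 hx).2),
      Finset.sum_congr rfl (fun x hx => e2 x (Finset.mem_filter.1 hx).2)] at h
    simp only [Finset.sum_const, smul_eq_mul] at h
    have c1 : (Finset.univ.filter fun y : V => InN y).card = 416 := by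
      rw [← ncard_N, ← Set.ncard_coe_finset]; simp
    have c2 : (Finset.univ.filter fun y : V => InM y).card = 1365 := by
      rw [← ncard_M, ← Set.ncard_coe_finset]; simp
    rwa [c1, c2] at h
  have eM : ((Setting.out G (pt 47)).filter fun y => InM y) =
      ((Setting.out G (pt 47)).filter fun y => Act0.part1.memB y.1 = true) := rfl
  have eN : ((Setting.out G (pt 1)).filter fun y => InN y) =
      ((Setting.out G (pt 1)).filter fun y => Act0.part2.memB y.1 = true) := rfl
  rw [eM, eN] at hedge
  simp only [show nReps.length = 6 from rfl, Finset.sum_range_succ, Finset.sum_range_zero,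
    if_pos n_0, if_neg n_1, nSizes, List.getD_cons_zero, List.getD_cons_succ] at hn hnM
  simp only [show mReps.length = 7 from rfl, Finset.sum_range_succ, Finset.sum_range_zero,
    if_neg m_0, if_neg m_1, mSizes, List.getD_cons_zero, List.getD_cons_succ] at hm hmN
  rw [hnM, hmN] at hedge
  simp only [← Bool.cond_decide] at hn hedge hm
  simp only [Finset.filter_true, S.card_out] at hn hm
  obtain ⟨h2, h3, h5⟩ := arith_n _ _ _ _ hn.symm
  simp only [h5, Bool.cond_self, cond_false, zero_add, add_zero] at hedge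
  obtain ⟨h4, g2, g3, g4, g5, g6⟩ := arith_m _ _ _ _ _ _ hm.symm hedge
  rw [h4] at h3
  simp only [Bool.not_true, decide_eq_true_eq, decide_eq_false_iff_not] at h2 h3 h4 h5 g2 g3 g4 g5 g6
  refine ⟨fun k hk => ?_, fun k hk => ?_⟩ <;>
  · interval_cases k
    all_goals simp only [nPattern, mPattern, List.getD_cons_zero, List.getD_cons_succ, Bool.false_eq_true]
    all_goals first
      | exact iff_of_true (by assumption) trivial
      | exact iff_of_false (by assumption) not_false

theorem adj_base {G : Subgroup (Equiv.Perm V)} (S : Setting G) (z : V) :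
    (Adj G n0 z ↔ Adj SuzP n0 z) ∧ (Adj G m0 z ↔ Adj SuzP m0 z) := by
  have key : ∀ {cls dep lt : ℕ → ℕ} {reps : List ℕ} {ws : List (List ℕ)} {b : ℕ} {pat : List Bool},
      b < 1782 → allFrom (classB cls dep lt reps ws b) 0 1782 = true →
      (∀ (H : Subgroup (Equiv.Perm V)), Setting H → ∀ k < reps.length,
        (Adj H (pt b) (pt (reps.getD k 0)) ↔ pat.getD k false = true)) →
      (Adj G (pt b) z ↔ Adj SuzP (pt b) z) := by
    intro cls dep lt reps ws b pat hb hok hpat
    have h1 := allFrom_spec hok z.1 (Nat.zero_le _) (by omega)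
    simp only [classB, Bool.and_eq_true] at h1
    have hk : cls z.1 < reps.length := Nat.le_of_ble_eq_true h1.1.1.1
    rw [← pt_self z, rep_iff S hb hok z.1 z.2, rep_iff setting_SuzP hb hok z.1 z.2, hpat G S _ hk,
      hpat SuzP setting_SuzP _ hk]
  exact ⟨key (pat := nPattern) (by norm_num) nClass_ok fun H hH k hk => (pattern hH).1 k hk,
    key (pat := mPattern) (by norm_num) mClass_ok fun H hH k hk => (pattern hH).2 k hk⟩

/-- **The graph does not depend on the group.** -/
theorem adj_eq {G : Subgroup (Equiv.Perm V)} (S : Setting G) (x y : V) : Adj G x y ↔ Adj SuzP x y := by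
  rcases partition x with ⟨rfl, -, -⟩ | ⟨-, ⟨hm, -⟩ | ⟨hn, -⟩⟩
  · rw [S.adj_zero, setting_SuzP.adj_zero]
  · obtain ⟨g, hg, rfl⟩ := (inM_iff x).1 hm
    rw [show y = g (g⁻¹ y) by simp, Setting.adj_map (S.le hg), Setting.adj_map (X_le_SuzP hg)]
    exact (adj_base S _).2
  · obtain ⟨g, hg, rfl⟩ := (inN_iff x).1 hn
    rw [show y = g (g⁻¹ y) by simp, Setting.adj_map (S.le hg), Setting.adj_map (X_le_SuzP hg)]
    exact (adj_base S _).1

/-- A walk to the first point, carried along. -/
noncomputable def adjGo (fuel : ℕ) : ℕ → ℕ → Bool :=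
  Nat.rec (motive := fun _ => ℕ → ℕ → Bool) (fun _ z => Act0.part2.memB z)
    (fun _ ih x z => Bool.rec (ih (T (backLet.get 8 x) x) (T (backLet.get 8 x) z)) (Act0.part2.memB z) (Nat.beq x 0))
    fuel

/-- The walk reaches the first point. -/
noncomputable def reachGo (fuel : ℕ) : ℕ → Bool :=
  Nat.rec (motive := fun _ => ℕ → Bool) (fun x => Nat.beq x 0)
    (fun _ ih x => Bool.rec (Nat.blt (backLet.get 8 x) 10 && ih (T (backLet.get 8 x) x)) true (Nat.beq x 0)) fuel

/-- The adjacency of the model. -/
noncomputable def adjB (x z : ℕ) : Bool := adjGo 12 x z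

theorem reach_ok : allFrom (reachGo 12) 0 1782 = true := by decide +kernel

theorem adjGo_spec : ∀ (fuel x z : ℕ), x < 1782 → z < 1782 → reachGo fuel x = true →
    (adjGo fuel x z = true ↔ Adj SuzP (pt x) (pt z)) := by
  intro fuel
  induction fuel with
  | zero =>
    intro x z hx hz h
    obtain rfl : x = 0 := Nat.eq_of_beq_eq_true h
    rw [show pt 0 = (0 : V) from rfl, setting_SuzP.adj_zero, InN, pt_val hz]
    rfl
  | succ n ih =>
    intro x z hx hz h
    change (Bool.rec (Nat.blt (backLet.get 8 x) 10 && reachGo n (T (backLet.get 8 x) x)) true (Nat.beq x 0) : Bool)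
      = true at h
    show (Bool.rec (adjGo n (T (backLet.get 8 x) x) (T (backLet.get 8 x) z)) (Act0.part2.memB z) (Nat.beq x 0) : Bool)
      = true ↔ _
    rcases hb : Nat.beq x 0 with _ | _
    · rw [hb] at h
      simp only [Bool.and_eq_true] at h
      have hl : backLet.get 8 x < 10 := Nat.le_of_ble_eq_true h.1
      show adjGo n _ _ = true ↔ _
      rw [ih _ _ (T_lt hl hx) (T_lt hl hz) h.2, ← lp_pt hl hx, ← lp_pt hl hz]
      exact Setting.adj_map (lp_mem_SuzP _) _ _
    · obtain rfl : x = 0 := Nat.eq_of_beq_eq_true hb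
      rw [show pt 0 = (0 : V) from rfl, setting_SuzP.adj_zero, InN, pt_val hz]

theorem adjB_iff {x z : ℕ} (hx : x < 1782) (hz : z < 1782) : adjB x z = true ↔ Adj SuzP (pt x) (pt z) :=
  adjGo_spec 12 x z hx hz (allFrom_spec reach_ok x (Nat.zero_le _) (by omega))

end CfsgLib.Spor.SuzThree
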