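import Cfsg.Agent.Lib.Spor.SuzThree.Model
import Cfsg.Agent.Lib.Lie.Chev.FieldMap
import Cfsg.Agent.Lib.Lie.Chev.GoodG2

/-!
# The point stabiliser is the Chevalley group over four elements
-/

set_option autoImplicit false
set_option maxRecDepth 100000

namespace CfsgLib.Spor.SuzThree

open CfsgLib.Spor.TC CfsgLib.Spor.Suz Cfsg.Lie

/-- **The point stabiliser is isomorphic to the group over a field of four elements.** -/
theorem nonempty_equiv_G2 (K : Type) [Field K] [Fintype K] (hK : Fintype.card K = 4) :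
    Nonempty (X ≃* chevG2.group K) := by
  obtain ⟨g⟩ := CfsgLib.Spor.Suz.GTwo.sub_iso
  let ι : CfsgLib.Spor.Fi22.U6.Four ≃+* K := FiniteField.ringEquivOfCardEq
    (CfsgLib.Spor.Fi22.U6.Four.card_four.trans hK.symm)
  obtain ⟨f⟩ := CfsgLib.Lie.Chev.Good.nonempty_groupEquiv CfsgLib.Lie.Chev.goodG2 ι
  have eX : presSub 7 relsG [0, 1, 2, 3, 4, 5] ≃* X :=
    ((presSub 7 relsG [0, 1, 2, 3, 4, 5]).equivMapOfInjective Act0.valid.rho rho_injective).trans
      (MulEquiv.subgroupCongr X_eq_map.symm)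
  exact ⟨eX.symm.trans (g.trans f)⟩

end CfsgLib.Spor.SuzThree
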