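import Cfsg.Agent.Lib.Spor.SuzThree.FlagDefs
import Cfsg.Agent.Lib.Spor.SuzThree.GraphData
import Cfsg.Agent.Lib.Spor.SuzThree.LineData

/-!
# The checks of the lines under the stabiliser of a point
-/

set_option autoImplicit false
set_option maxRecDepth 100000
set_option Elab.async false

namespace CfsgLib.Spor.SuzThree.LineData

open CfsgLib.Spor.TC
open CfsgLib.Spor.SuzThree.FlagData (lstepB)

/-- The check at one line. -/
noncomputable def lineRowB (l : ℕ) : Bool :=
  Nat.blt (lCls.get 8 l) 2 &&
    (Nat.beq l (lReps.getD (lCls.get 8 l) 0) ||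
      Nat.blt (lNext.get 16 l) 1365 && Nat.blt (lLet.get 8 l) GraphData.nWords.length &&
        Nat.blt (lDep.get 8 (lNext.get 16 l)) (lDep.get 8 l) &&
        Nat.beq (lCls.get 8 (lNext.get 16 l)) (lCls.get 8 l) &&
        lstepB (GraphData.nWords.getD (lLet.get 8 l) []) l (lNext.get 16 l))

theorem lineRows0 : allFrom lineRowB 0 455 = true := by decide +kernel

theorem lineRows1 : allFrom lineRowB 455 455 = true := by decide +kernel

theorem lineRows2 : allFrom lineRowB 910 455 = true := by decide +kernel

theorem lineCounts : ((List.range 2).all fun k =>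
    Nat.ble 525 ((List.range 1365).countP fun l => Nat.beq (lCls.get 8 l) k)) = true := by
  decide +kernel

theorem lineWords_ok : (GraphData.nWords.all fun w =>
    (w.all fun a => Nat.blt a 10) && Nat.beq (wv w 0) 0 && Nat.beq (wv w 47) 47) = true := by
  decide +kernel

end CfsgLib.Spor.SuzThree.LineData
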