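import Cfsg.Agent.Lib.Spor.SuzThree.StabM
import Cfsg.Agent.Lib.Spor.SuzThree.LineCheck

/-!
# The stabiliser of a point of the orbit of length 416 has no small orbit on lines
-/

set_option autoImplicit false
set_option maxRecDepth 100000

namespace CfsgLib.Spor.SuzThree

open CfsgLib.Spor.TC
open FlagData LineData

/-- Any line is in an orbit of at least 525 lines. -/
theorem lines_base {l : ℕ} (hl : l < 1365) :
    525 ≤ {t | ∃ g ∈ X, g n0 = n0 ∧ img g (lineSet l) = t}.ncard := by
  classical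
  have row : ∀ q < 1365, lineRowB q = true := fun q hq => by
    rcases Nat.lt_or_ge q 455 with h | h
    · exact allFrom_spec lineRows0 q (Nat.zero_le _) (by omega)
    rcases Nat.lt_or_ge q 910 with h' | h'
    · exact allFrom_spec lineRows1 q h (by omega)
    · exact allFrom_spec lineRows2 q h' (by omega)
  have hws := lineWords_ok
  simp only [List.all_eq_true, Bool.and_eq_true] at hws
  have reach : ∀ q < 1365, ∃ g ∈ X, g n0 = n0 ∧ img g (lineSet q) = lineSet (lReps.getD (lCls.get 8 q) 0) := by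
    intro q
    induction' hd : lDep.get 8 q using Nat.strong_induction_on with d ih generalizing q
    intro hq
    have h := row q hq
    simp only [lineRowB, Bool.and_eq_true, Bool.or_eq_true] at h
    rcases h.2 with e | ⟨⟨⟨⟨h1, h2⟩, h3⟩, h4⟩, h5⟩
    · exact ⟨1, one_mem _, rfl, by rw [img_one, ← Nat.eq_of_beq_eq_true e]⟩
    have hwm : GraphData.nWords.getD (lLet.get 8 q) [] ∈ GraphData.nWords := by
      rw [List.getD_eq_getElem _ _ (Nat.le_of_ble_eq_true h2)]; exact List.getElem_mem _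
    obtain ⟨⟨hl10, h0⟩, hfb⟩ := hws _ hwm
    have hl' : ∀ x ∈ GraphData.nWords.getD (lLet.get 8 q) [], x < 10 := fun x hx => Nat.le_of_ble_eq_true (hl10 x hx)
    have hwX : wp (GraphData.nWords.getD (lLet.get 8 q) []) ∈ X :=
      (suborbit_stab _ (wp_mem_SuzP _)).1 (Fin.ext ((wp_apply hl' 0).trans (Nat.eq_of_beq_eq_true h0)))
    have hwn : wp (GraphData.nWords.getD (lLet.get 8 q) []) n0 = n0 := by
      rw [n0, (wp_pt hl' (by norm_num)).1, Nat.eq_of_beq_eq_true hfb]
    have hstep : img (wp (GraphData.nWords.getD (lLet.get 8 q) [])) (lineSet q) = lineSet (lNext.get 16 q) :=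
      img_eq_of_into hl' (lineOK hq).small ((lineOK hq).sorted.imp fun h => h.ne) (by simp [ql]) h5
    obtain ⟨g, hg, hgn, e⟩ := ih _ (hd ▸ Nat.le_of_ble_eq_true h3) _ rfl (Nat.le_of_ble_eq_true h1)
    rw [Nat.eq_of_beq_eq_true h4] at e
    exact ⟨_, mul_mem hg hwX, by rw [Equiv.Perm.mul_apply, hwn, hgn], by rw [img_mul, hstep, e]⟩
  obtain ⟨g, hg, hgn, e⟩ := reach l hl
  have hk : lCls.get 8 l < 2 := by
    have h := row l hl
    simp only [lineRowB, Bool.and_eq_true] at h
    exact Nat.le_of_ble_eq_true h.1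
  have hcnt := lineCounts
  simp only [List.all_eq_true, List.mem_range] at hcnt
  set T : Finset ℕ := (Finset.range 1365).filter fun q => lCls.get 8 q = lCls.get 8 l with hT
  have h525 : 525 ≤ T.card := by
    refine le_trans (Nat.le_of_ble_eq_true (hcnt _ hk)) (le_of_eq ?_)
    rw [List.countP_eq_length_filter, ← List.toFinset_card_of_nodup (List.nodup_range.filter _)]
    refine congrArg Finset.card (Finset.ext fun q => ?_)
    simp [hT]
  refine h525.trans ?_
  rw [← Set.ncard_coe_finset T, ← Set.InjOn.ncard_image (f := lineSet) (fun a ha b hb => lineSet_inj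
    (Finset.mem_range.1 (Finset.mem_filter.1 ha).1) (Finset.mem_range.1 (Finset.mem_filter.1 hb).1))]
  refine Set.ncard_le_ncard ?_ (Set.toFinite _)
  rintro _ ⟨q, hq, rfl⟩
  rw [Finset.mem_coe, Finset.mem_filter, Finset.mem_range] at hq
  obtain ⟨g', hg', hgn', e'⟩ := reach q hq.1
  rw [hq.2] at e'
  refine ⟨g'⁻¹ * g, mul_mem (inv_mem hg') hg, ?_, ?_⟩
  · rw [Equiv.Perm.mul_apply, hgn]; exact Equiv.Perm.inv_eq_iff_eq.2 hgn'.symm
  · rw [img_mul, e]; exact img_inv e'

/-- **A point stabiliser in the orbit of length 416 has no orbit on lines with fewer than 525 lines.** -/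
theorem lines_orbit {n : V} (hn : InN n) {s : Finset V} (hs : ∃ g ∈ X, img g line0 = s) :
    525 ≤ {t | ∃ g ∈ X, g n = n ∧ img g s = t}.ncard := by
  obtain ⟨x, hx, rfl⟩ := (inN_iff n).1 hn
  obtain ⟨g0, hg0, rfl⟩ := hs
  obtain ⟨l, hl, el⟩ : img (x⁻¹ * g0) line0 ∈ lineSet '' Set.Iio 1365 := by
    rw [← orbit_line]; exact ⟨_, mul_mem (inv_mem hx) hg0, rfl⟩
  refine (lines_base (Set.mem_Iio.1 hl)).trans ?_
  refine Set.ncard_le_ncard_of_injOn (img x) ?_ (fun a _ b _ h => ?_) (Set.toFinite _)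
  · rintro _ ⟨g, hg, hgn, rfl⟩
    refine ⟨x * g * x⁻¹, mul_mem (mul_mem hx hg) (inv_mem hx), ?_, ?_⟩
    · simp [hgn]
    · rw [el]
      simp only [← img_mul, mul_assoc]
  · have := congrArg (img x⁻¹) h
    rwa [← img_mul, ← img_mul, inv_mul_cancel, img_one, img_one] at this

end CfsgLib.Spor.SuzThree
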