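import Cfsg.Agent.Lib.Spor.SuzThree.StabN
import Cfsg.Agent.Lib.Spor.SuzThree.Lines
import Cfsg.Agent.Lib.Spor.SuzThree.Iso
import Cfsg.Agent.Lib.Spor.SuzThree.AutBound
import Cfsg.Prelude.Def_Spor_Suz

/-!
# The recognition of the Suzuki group as a rank three group on 1782 points
-/

set_option autoImplicit false
set_option maxRecDepth 100000

namespace CfsgLib.Spor.SuzThree

open MulAction

theorem simple_SuzP : IsSimpleGroup SuzP := by
  haveI : IsSimpleGroup (CfsgLib.Spor.TC.Pres Suz.Act0.act.k Suz.relsG) := Suz.suz.1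
  haveI : Nontrivial SuzP := Finite.one_lt_card_iff_nontrivial.1 (by rw [card_SuzP]; norm_num)
  exact IsSimpleGroup.isSimpleGroup_of_surjective (MonoidHom.ofInjective rho_injective).toMonoidHom
    (MonoidHom.ofInjective rho_injective).surjective

theorem le_FixL_nil {G : Subgroup (Equiv.Perm V)} (S : Setting G) : G ≤ FixL [] := fun σ hσ =>
  mem_FixL.2 ⟨fun x y => by rw [← adj_eq S, Setting.adj_map hσ, adj_eq S], fun a ha => by cases ha⟩

theorem card_Setting {G : Subgroup (Equiv.Perm V)} (S : Setting G) : Nat.card G = 448345497600 := by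
  have h := point_orbit_card G 0 X S.le fun g hg => S.stab g hg
  rw [show {c : V | ∃ g ∈ G, g 0 = c} = Set.univ from Set.eq_univ_of_forall S.trans, Set.ncard_univ, Nat.card_fin,
    card_X] at h
  omega

theorem card_FixL_nil : Nat.card (FixL []) ≤ 896690995200 := by
  have h := card_step [] 0 (List.range 1782) fun σ _ => List.mem_range.2 (σ (pt 0)).2
  rw [List.length_range] at h
  exact h.trans ((Nat.mul_le_mul_left _ card_FixL_le).trans (by norm_num))

theorem eq_SuzP {G : Subgroup (Equiv.Perm V)} (S : Setting G) : G = SuzP := by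
  have hA := le_FixL_nil S
  have hB := le_FixL_nil setting_SuzP
  haveI := simple_SuzP
  have hGA : G.relIndex (FixL []) ≤ 2 := by
    have h := (G.subgroupOf (FixL [])).index_mul_card
    rw [Nat.card_congr (Subgroup.subgroupOfEquivOfLe hA).toEquiv, card_Setting S] at h
    by_contra hlt
    push Not at hlt
    have h3 := Nat.mul_le_mul_right 448345497600 (Nat.succ_le_of_lt hlt)
    have h4 := card_FixL_nil
    rw [← h] at h4
    change 2 < (G.subgroupOf (FixL [])).index at hlt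
    omega
  have hne : G.relIndex (FixL []) ≠ 0 := Subgroup.index_ne_zero_of_finite
  have hidx : (G.subgroupOf SuzP).index ≤ 2 := (Subgroup.relIndex_le_of_le_right hB hne).trans hGA
  have hpos : (G.subgroupOf SuzP).index ≠ 0 := Subgroup.index_ne_zero_of_finite
  have htop : G.subgroupOf SuzP = ⊤ := by
    rcases Nat.lt_or_ge (G.subgroupOf SuzP).index 2 with h | h
    · exact Subgroup.index_eq_one.1 (by omega)
    · have hn : (G.subgroupOf SuzP).Normal := Subgroup.normal_of_index_eq_two (le_antisymm hidx h)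
      rcases hn.eq_bot_or_eq_top with e | e
      · exfalso
        rw [e, Subgroup.index_bot, card_SuzP] at hidx
        omega
      · exact e
  exact (Subgroup.eq_of_le_of_card_ge (Subgroup.subgroupOf_eq_top.1 htop)
    (by rw [card_Setting S, card_SuzP])).symm

theorem card_stab_mul {α : Type*} [MulAction (↥X) α] (s : α) :
    (orbit (↥X) s).ncard * Nat.card (stabilizer (↥X) s) = 251596800 := by
  rw [← card_X, ← Nat.card_congr (orbitProdStabilizerEquivGroup (↥X) s), Nat.card_prod, Nat.card_coe_set_eq]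

theorem orbit_points (n : V) : orbit (↥X) n = {c : V | ∃ g ∈ X, g n = c} :=
  Set.ext fun c => ⟨fun ⟨g, e⟩ => ⟨g.1, g.2, e⟩, fun ⟨g, hg, e⟩ => ⟨⟨g, hg⟩, e⟩⟩

section

variable {Ω : Type*} [Finite Ω] {G : Subgroup (Equiv.Perm Ω)} {a : Ω}

theorem comap_card (φ : ↥X ≃* ↥(stabilizer (↥G) a)) (b : Ω) {N k : ℕ}
    (hb : (orbit (↥(stabilizer (↥G) a)) b).ncard = N) (hk : k * N = 251596800) (hN : 0 < N) :
    Nat.card ((stabilizer (↥(stabilizer (↥G) a)) b).comap φ.toMonoidHom) = k := by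
  have e1 : Nat.card ((stabilizer (↥(stabilizer (↥G) a)) b).comap φ.toMonoidHom) =
      Nat.card (stabilizer (↥(stabilizer (↥G) a)) b) := by
    refine Nat.card_congr (Equiv.subtypeEquiv φ.toEquiv fun x => ?_)
    rfl
  have e2 := Nat.card_congr (orbitProdStabilizerEquivGroup (↥(stabilizer (↥G) a)) b)
  rw [Nat.card_prod, Nat.card_coe_set_eq, hb, ← Nat.card_congr φ.toEquiv, card_X, ← e1, mul_comm] at e2
  exact Nat.eq_of_mul_eq_mul_right hN (e2.trans hk.symm)

theorem key_of_fixed {α : Type*} [MulAction (↥X) α] (φ : ↥X ≃* ↥(stabilizer (↥G) a)) (b : Ω) {N k : ℕ}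
    (hb : (orbit (↥(stabilizer (↥G) a)) b).ncard = N) (hk : k * N = 251596800) (hN : 0 < N) (s : α)
    (hs : (orbit (↥X) s).ncard = N) (hfix : ∀ x : ↥X, φ x • b = b → x • s = s) :
    ∀ x y : ↥X, (x • s = y • s ↔ φ x • b = φ y • b) := by
  have hle : (stabilizer (↥(stabilizer (↥G) a)) b).comap φ.toMonoidHom ≤ stabilizer (↥X) s := fun x hx => hfix x hx
  have hcs := card_stab_mul s
  rw [hs] at hcs
  have heq := Subgroup.eq_of_le_of_card_ge hle (by
    rw [comap_card φ b hb hk hN]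
    exact (Nat.eq_of_mul_eq_mul_left hN (hcs.trans (hk.symm.trans (mul_comm k N)))).le)
  intro x y
  have h1 : x • s = y • s ↔ y⁻¹ * x ∈ stabilizer (↥X) s := by
    rw [mem_stabilizer_iff, mul_smul, inv_smul_eq_iff]
  rw [h1, ← heq]
  show φ (y⁻¹ * x) • b = b ↔ _
  rw [map_mul, map_inv, mul_smul, inv_smul_eq_iff]

omit [Finite Ω] in
theorem card_meet (u : Ω) : Nat.card (stabilizer (↥(stabilizer (↥G) a)) u) =
    Nat.card {g : ↥G // g • a = a ∧ g • u = u} :=
  Nat.card_congr
    { toFun := fun g => ⟨g.1.1, g.1.2, g.2⟩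
      invFun := fun g => ⟨⟨g.1, g.2.1⟩, g.2.2⟩
      left_inv := fun _ => rfl
      right_inv := fun _ => rfl }

/-- **The orbit of length 1365 is not the orbit on lines.** -/
theorem not_lines [Fintype Ω] (hΩ : Fintype.card Ω = 1782) [IsPretransitive (↥G) Ω]
    (φ : ↥X ≃* ↥(stabilizer (↥G) a)) (b c : Ω) (hb : (orbit (↥(stabilizer (↥G) a)) b).ncard = 416)
    (hc : (orbit (↥(stabilizer (↥G) a)) c).ncard = 1365) (n : V) (hn : InN n)
    (keyN : ∀ x y : ↥X, (x.1 n = y.1 n ↔ φ x • b = φ y • b)) (s : Finset V)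
    (hs : ∃ g ∈ X, img g line0 = s)
    (keyL : ∀ x y : ↥X, (img x.1 s = img y.1 s ↔ φ x • c = φ y • c)) : False := by
  classical
  set Ob := orbit (↥(stabilizer (↥G) a)) b with hOb
  set Oc := orbit (↥(stabilizer (↥G) a)) c with hOc
  have hfixa : ∀ h : ↥(stabilizer (↥G) a), h.1 • a = a := fun h => h.2
  have ha1 : (orbit (↥(stabilizer (↥G) a)) a).ncard = 1 := by
    refine Set.ncard_eq_one.2 ⟨a, Set.ext fun v => ⟨?_, fun e => ?_⟩⟩
    · rintro ⟨h, rfl⟩; exact hfixa h
    · rw [Set.mem_singleton_iff] at e; subst e; exact mem_orbit_self _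
  have hab : a ∉ Ob := fun h => by
    have := congrArg Set.ncard (orbit_eq_iff.2 h)
    rw [ha1, ← hOb, hb] at this
    omega
  have hac : a ∉ Oc := fun h => by
    have := congrArg Set.ncard (orbit_eq_iff.2 h)
    rw [ha1, ← hOc, hc] at this
    omega
  have hbc : Disjoint Ob Oc := Set.disjoint_left.2 fun v h1 h2 => by
    have := congrArg Set.ncard ((orbit_eq_iff.2 h1).symm.trans (orbit_eq_iff.2 h2))
    rw [← hOb, ← hOc, hb, hc] at this
    omega
  have hcover : ∀ v, v = a ∨ v ∈ Ob ∨ v ∈ Oc := by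
    have hu : (insert a (Ob ∪ Oc)).ncard = 1782 := by
      rw [Set.ncard_insert_of_notMem (by rintro (h | h) <;> [exact hab h; exact hac h]) (Set.toFinite _),
        Set.ncard_union_eq hbc (Set.toFinite _) (Set.toFinite _), hb, hc]
    have := Set.eq_of_subset_of_ncard_le (Set.subset_univ (insert a (Ob ∪ Oc)))
      (by rw [Set.ncard_univ, Nat.card_eq_fintype_card, hΩ, hu]) (Set.toFinite _)
    intro v
    have hv : v ∈ insert a (Ob ∪ Oc) := this ▸ Set.mem_univ v
    exact hv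
  obtain ⟨g1, hg1⟩ := exists_smul_eq (↥G) a b
  set T : Set Ω := {v | g1⁻¹ • v ∈ Ob} with hT
  have hT416 : T.ncard = 416 := by
    rw [← hb, show T = (fun v => g1 • v) '' Ob from Set.ext fun v =>
      ⟨fun h => ⟨_, h, smul_inv_smul g1 v⟩, by rintro ⟨w, hw, rfl⟩; simpa [hT] using hw⟩,
      Set.ncard_image_of_injective _ (MulAction.injective g1)]
  have hTinv : ∀ h : ↥G, h • a = a → h • b = b → ∀ v ∈ T, h • v ∈ T := by
    intro h ha hb' v hv
    have hk : (g1⁻¹ * h * g1) • a = a := by rw [mul_smul, mul_smul, hg1, hb', inv_smul_eq_iff, hg1]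
    show g1⁻¹ • h • v ∈ Ob
    rw [show g1⁻¹ • h • v = (⟨g1⁻¹ * h * g1, hk⟩ : ↥(stabilizer (↥G) a)) • (g1⁻¹ • v) by
      show _ = (g1⁻¹ * h * g1) • g1⁻¹ • v
      simp [mul_smul]]
    have h2 := mem_orbit (g1⁻¹ • v) (⟨g1⁻¹ * h * g1, hk⟩ : ↥(stabilizer (↥G) a))
    rwa [orbit_eq_iff.2 hv] at h2
  have haT : a ∈ T := by
    show g1⁻¹ • a ∈ Ob
    have e : Nat.card (stabilizer (↥(stabilizer (↥G) a)) b) = Nat.card (stabilizer (↥(stabilizer (↥G) a)) (g1⁻¹ • a)) := by
      rw [card_meet, card_meet]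
      refine Nat.card_congr (Equiv.subtypeEquiv (MulAut.conj g1⁻¹).toEquiv fun g => ?_)
      show g • a = a ∧ g • b = b ↔
        (g1⁻¹ * g * g1⁻¹⁻¹) • a = a ∧ (g1⁻¹ * g * g1⁻¹⁻¹) • g1⁻¹ • a = g1⁻¹ • a
      rw [inv_inv, mul_smul, mul_smul, hg1, inv_smul_eq_iff, hg1]
      simp only [mul_smul, smul_inv_smul, smul_left_cancel_iff]
      exact And.comm
    have o1 := Nat.card_congr (orbitProdStabilizerEquivGroup (↥(stabilizer (↥G) a)) b)
    have o2 := Nat.card_congr (orbitProdStabilizerEquivGroup (↥(stabilizer (↥G) a)) (g1⁻¹ • a))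
    rw [Nat.card_prod, Nat.card_coe_set_eq] at o1 o2
    rw [← e, ← o1] at o2
    have h416 : (orbit (↥(stabilizer (↥G) a)) (g1⁻¹ • a)).ncard = 416 :=
      (Nat.eq_of_mul_eq_mul_right Nat.card_pos o2).trans hb
    rcases hcover (g1⁻¹ • a) with h | h | h
    · rw [h, ha1] at h416; omega
    · exact h
    · rw [orbit_eq_iff.2 h, ← hOc, hc] at h416; omega
  have hbT : b ∉ T := fun h => hab (by
    have h' : g1⁻¹ • b ∈ Ob := h
    rwa [← hg1, inv_smul_smul] at h')
  have hTc : Disjoint T Oc := by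
    refine Set.disjoint_left.2 fun v hv hvc => ?_
    obtain ⟨h0, rfl⟩ := hvc
    obtain ⟨x0, rfl⟩ := φ.surjective h0
    obtain ⟨g0, hg0, e0⟩ := hs
    have h525 := lines_orbit hn (s := img x0.1 s) ⟨x0.1 * g0, mul_mem x0.2 hg0, by rw [img_mul, e0]⟩
    have hle : {t | ∃ g ∈ X, g n = n ∧ img g (img x0.1 s) = t}.ncard ≤ (T \ {a}).ncard := by
      let f : Finset V → Ω := fun t => if h : ∃ g : ↥X, g.1 n = n ∧ img g.1 (img x0.1 s) = t then
        φ (h.choose * x0) • c else a
      have hmul : ∀ g : ↥X, img (g * x0).1 s = img g.1 (img x0.1 s) := fun g => img_mul _ _ _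
      refine Set.ncard_le_ncard_of_injOn f ?_ ?_ (Set.toFinite _)
      · rintro t ⟨g, hg, hgn, et⟩
        have h : ∃ g : ↥X, g.1 n = n ∧ img g.1 (img x0.1 s) = t := ⟨⟨g, hg⟩, hgn, et⟩
        have e1 : φ h.choose • b = b := by
          have := (keyN h.choose 1).1 (by simpa using h.choose_spec.1)
          simpa using this
        simp only [f, dif_pos h]
        refine ⟨?_, ?_⟩
        · rw [map_mul, mul_smul]
          exact hTinv _ (hfixa _) e1 _ hv
        · intro e
          rw [Set.mem_singleton_iff] at e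
          exact hac ⟨φ (h.choose * x0), e⟩
      · rintro t ⟨g, hg, hgn, et⟩ t' ⟨g', hg', hgn', et'⟩ e
        have h : ∃ g : ↥X, g.1 n = n ∧ img g.1 (img x0.1 s) = t := ⟨⟨g, hg⟩, hgn, et⟩
        have h' : ∃ g : ↥X, g.1 n = n ∧ img g.1 (img x0.1 s) = t' := ⟨⟨g', hg'⟩, hgn', et'⟩
        simp only [f, dif_pos h, dif_pos h'] at e
        have := (keyL _ _).2 e
        rwa [hmul, hmul, h.choose_spec.2, h'.choose_spec.2] at this
    rw [Set.ncard_diff_singleton_of_mem haT, hT416] at hle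
    omega
  set K : Set Ω := insert a Ob with hK
  have hKcard : K.ncard = 417 := by rw [hK, Set.ncard_insert_of_notMem hab (Set.toFinite _), hb]
  have hTsub : insert b T = K := by
    refine Set.eq_of_subset_of_ncard_le (fun v hv => ?_) ?_ (Set.toFinite _)
    · rcases hv with rfl | hv
      · exact Or.inr (mem_orbit_self _)
      · rcases hcover v with h | h | h
        · exact Or.inl h
        · exact Or.inr h
        · exact absurd h (Set.disjoint_left.1 hTc hv)
    · rw [hKcard, Set.ncard_insert_of_notMem hbT (Set.toFinite _), hT416]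
  let H : Subgroup (↥G) :=
    { carrier := {g | (fun v => g • v) '' K = K}
      one_mem' := by simp
      mul_mem' := fun {g h} hg hh => by
        show (fun v => (g * h) • v) '' K = K
        rw [show (fun v => (g * h) • v) = (fun v => g • v) ∘ (fun v : Ω => h • v) from funext fun v => mul_smul g h v,
          Set.image_comp, hh, hg]
      inv_mem' := fun {g} hg => by
        show (fun v => g⁻¹ • v) '' K = K
        conv_lhs => rw [← hg]
        simp [← Set.image_comp, Function.comp_def] }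
  have hGaH : (stabilizer (↥G) a) ≤ H := by
    intro g hg
    show (fun v => g • v) '' K = K
    rw [hK, Set.image_insert_eq, show g • a = a from hg]
    congr 1
    refine Set.ext fun v => ⟨?_, fun hv => ?_⟩
    · rintro ⟨w, hw, rfl⟩
      have h2 := mem_orbit w (⟨g, hg⟩ : ↥(stabilizer (↥G) a))
      rw [orbit_eq_iff.2 hw] at h2
      exact h2
    · have h2 := mem_orbit v (⟨g, hg⟩⁻¹ : ↥(stabilizer (↥G) a))
      rw [orbit_eq_iff.2 hv] at h2
      exact ⟨g⁻¹ • v, h2, smul_inv_smul _ _⟩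
  have hg1H : g1 ∈ H := by
    show (fun v => g1 • v) '' K = K
    rw [hK, Set.image_insert_eq, hg1, ← hK]
    rw [show (fun v => g1 • v) '' Ob = T from Set.ext fun v =>
      ⟨by rintro ⟨w, hw, rfl⟩; simpa [hT] using hw, fun h => ⟨_, h, smul_inv_smul g1 v⟩⟩]
    exact hTsub
  have horb : orbit (↥H) a = K := by
    refine Set.Subset.antisymm ?_ ?_
    · rintro _ ⟨g, rfl⟩
      have hh : (fun v => (g.1 : ↥G) • v) '' K = K := g.2
      rw [← hh]
      exact ⟨a, Or.inl rfl, rfl⟩
    · intro v hv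
      rcases hv with rfl | ⟨h, rfl⟩
      · exact mem_orbit_self _
      · exact ⟨⟨h.1 * g1, mul_mem (hGaH h.2) hg1H⟩, by
          show (h.1 * g1) • a = h.1 • b
          rw [mul_smul, hg1]⟩
  have hH : 417 * Nat.card (stabilizer (↥G) a) = Nat.card H := by
    rw [← hKcard, ← horb, ← Nat.card_congr (orbitProdStabilizerEquivGroup (↥H) a), Nat.card_prod, Nat.card_coe_set_eq]
    congr 1
    exact Nat.card_congr
      { toFun := fun g => ⟨⟨g.1, hGaH g.2⟩, g.2⟩
        invFun := fun g => ⟨g.1.1, g.2⟩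
        left_inv := fun _ => rfl
        right_inv := fun _ => rfl }
  have hG : 1782 * Nat.card (stabilizer (↥G) a) = Nat.card G := by
    rw [← Nat.card_congr (orbitProdStabilizerEquivGroup (↥G) a), Nat.card_prod, Nat.card_coe_set_eq,
      orbit_eq_univ, Set.ncard_univ, Nat.card_eq_fintype_card (α := Ω), hΩ]
  have hdvd : 417 * Nat.card (stabilizer (↥G) a) ∣ 1782 * Nat.card (stabilizer (↥G) a) := by
    rw [hH, hG]; exact Subgroup.card_subgroup_dvd_card H
  have := Nat.dvd_of_mul_dvd_mul_right Nat.card_pos hdvd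
  norm_num at this

end

/-- **The Suzuki group is determined by its rank three action on 1782 points.** -/
theorem recognition {Ω : Type*} [Fintype Ω] (hΩ : Fintype.card Ω = 1782) (G : Subgroup (Equiv.Perm Ω))
    [IsPretransitive G Ω] (a : Ω) (K : Type) [Field K] [Fintype K] (hK : Fintype.card K = 4)
    (e : stabilizer G a ≃* Cfsg.Lie.chevG2.group K) (b c : Ω)
    (hb : (orbit (stabilizer G a) b).ncard = 416) (hc : (orbit (stabilizer G a) c).ncard = 1365) :
    Cfsg.Spor.IsoSuz G := by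
  classical
  obtain ⟨e0⟩ := nonempty_equiv_G2 K hK
  let φ : ↥X ≃* ↥(stabilizer (↥G) a) := e0.trans e.symm
  have horbN : ∀ n, InN n → (orbit (↥X) n).ncard = 416 := fun n hn => by
    rw [orbit_points, ← ncard_N]
    obtain ⟨g, hg, rfl⟩ := (inN_iff n).1 hn
    refine congrArg Set.ncard (Set.ext fun q => ⟨fun ⟨h, hh, e⟩ => ?_, fun hq => ?_⟩)
    · rw [Set.mem_setOf_eq, ← e, inN_map hh, inN_iff]; exact ⟨g, hg, rfl⟩
    · obtain ⟨h, hh, rfl⟩ := (inN_iff q).1 hq
      exact ⟨h * g⁻¹, mul_mem hh (inv_mem hg), by simp⟩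
  have horbM : ∀ n, InM n → (orbit (↥X) n).ncard = 1365 := fun n hn => by
    rw [orbit_points, ← ncard_M]
    obtain ⟨g, hg, rfl⟩ := (inM_iff n).1 hn
    refine congrArg Set.ncard (Set.ext fun q => ⟨fun ⟨h, hh, e⟩ => ?_, fun hq => ?_⟩)
    · rw [Set.mem_setOf_eq, ← e, inM_map hh, inM_iff]; exact ⟨g, hg, rfl⟩
    · obtain ⟨h, hh, rfl⟩ := (inM_iff q).1 hq
      exact ⟨h * g⁻¹, mul_mem hh (inv_mem hg), by simp⟩
  obtain ⟨n, hn, hfixn⟩ := stab_of_index_N
    (((stabilizer (↥(stabilizer (↥G) a)) b).comap φ.toMonoidHom).map X.subtype) (Subgroup.map_subtype_le _)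
    (by rw [Subgroup.card_map_of_injective X.subtype_injective]; exact comap_card φ b hb (by norm_num) (by norm_num))
  have keyN : ∀ x y : ↥X, (x.1 n = y.1 n ↔ φ x • b = φ y • b) :=
    key_of_fixed φ b hb (k := 604800) (by norm_num) (by norm_num) n (horbN n hn) fun x hx => hfixn x.1 ⟨x, hx, rfl⟩
  obtain ⟨m, hm, keyM⟩ : ∃ m, InM m ∧ ∀ x y : ↥X, (x.1 m = y.1 m ↔ φ x • c = φ y • c) := by
    rcases stab_of_index_M (((stabilizer (↥(stabilizer (↥G) a)) c).comap φ.toMonoidHom).map X.subtype)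
      (Subgroup.map_subtype_le _)
      (by rw [Subgroup.card_map_of_injective X.subtype_injective]; exact comap_card φ c hc (by norm_num) (by norm_num))
      with ⟨m, hm, hfix⟩ | ⟨x0, hx0, hfix⟩
    · exact ⟨m, hm, key_of_fixed φ c hc (k := 184320) (by norm_num) (by norm_num) m (horbM m hm)
        fun x hx => hfix x.1 ⟨x, hx, rfl⟩⟩
    · exfalso
      letI A : MulAction (↥X) (Finset V) :=
        { smul := fun g s => img g.1 s
          one_smul := img_one
          mul_smul := fun g h s => img_mul g.1 h.1 s }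
      have ho : (orbit (↥X) (img x0 line0)).ncard = 1365 := by
        rw [show orbit (↥X) (img x0 line0) = {s | ∃ g ∈ X, img g line0 = s} from Set.ext fun s =>
          ⟨fun ⟨g, e⟩ => ⟨g.1 * x0, mul_mem g.2 hx0, by rw [img_mul]; exact e⟩,
            fun ⟨g, hg, e⟩ => ⟨⟨g * x0⁻¹, mul_mem hg (inv_mem hx0)⟩, by
              show img (g * x0⁻¹) (img x0 line0) = s
              rw [← img_mul, inv_mul_cancel_right, e]⟩⟩, ncard_lines]
      exact not_lines hΩ φ b c hb hc n hn keyN (img x0 line0) ⟨x0, hx0, rfl⟩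
        (key_of_fixed φ c hc (k := 184320) (by norm_num) (by norm_num) (img x0 line0) ho
          fun x hx => hfix x.1 ⟨x, hx, rfl⟩)
  have hexN : ∀ q, InN q → ∃ x : ↥X, x.1 n = q := fun q hq => by
    obtain ⟨g, hg, rfl⟩ := (inN_iff q).1 hq
    obtain ⟨g', hg', e'⟩ := (inN_iff n).1 hn
    exact ⟨⟨g * g'⁻¹, mul_mem hg (inv_mem hg')⟩, by simp [← e']⟩
  have hexM : ∀ q, InM q → ∃ x : ↥X, x.1 m = q := fun q hq => by
    obtain ⟨g, hg, rfl⟩ := (inM_iff q).1 hq
    obtain ⟨g', hg', e'⟩ := (inM_iff m).1 hm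
    exact ⟨⟨g * g'⁻¹, mul_mem hg (inv_mem hg')⟩, by simp [← e']⟩
  let θ : V → Ω := fun q => if h : InN q then φ (hexN q h).choose • b else
    if h' : InM q then φ (hexM q h').choose • c else a
  have θN : ∀ x : ↥X, θ (x.1 n) = φ x • b := fun x => by
    have h : InN (x.1 n) := (inN_map x.2 n).2 hn
    simp only [θ, dif_pos h]
    exact (keyN _ _).1 (hexN _ h).choose_spec
  have notNM : ∀ q, InM q → ¬ InN q := fun q hq hq' => by
    rcases partition q with ⟨-, h, -⟩ | ⟨-, ⟨-, h⟩ | ⟨-, h⟩⟩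
    exacts [h hq, h hq', h hq]
  have θM : ∀ x : ↥X, θ (x.1 m) = φ x • c := fun x => by
    have h : InM (x.1 m) := (inM_map x.2 m).2 hm
    simp only [θ, dif_neg (notNM _ h), dif_pos h]
    exact (keyM _ _).1 (hexM _ h).choose_spec
  have θ0 : θ 0 = a := by
    rcases partition 0 with ⟨-, h1, h2⟩ | ⟨h, -⟩
    · simp only [θ, dif_neg h2, dif_neg h1]
    · exact absurd rfl h
  have hfixa : ∀ x : ↥X, φ x • a = a := fun x => (φ x).2
  have hne : ∀ (u : Ω), 1 < (orbit (stabilizer G a) u).ncard → ∀ x : ↥X, φ x • u ≠ a := by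
    intro u hu x he
    have hua : u = a := MulAction.injective (φ x) (he.trans (hfixa x).symm)
    have hsub : orbit (stabilizer G a) u ⊆ {a} := by
      rintro _ ⟨g, rfl⟩
      rw [hua]
      exact g.2
    have := Set.ncard_le_ncard hsub
    rw [Set.ncard_singleton] at this
    omega
  have hbc : ∀ x y : ↥X, φ x • b ≠ φ y • c := by
    intro x y he
    have h1 : orbit (stabilizer G a) b = orbit (stabilizer G a) c :=
      orbit_eq_iff.2 ⟨(φ x)⁻¹ * φ y, by
        show ((φ x)⁻¹ * φ y) • c = b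
        rw [mul_smul, ← he, inv_smul_smul]⟩
    rw [h1, hc] at hb
    exact absurd hb (by norm_num)
  have hcase : ∀ q : V, q = 0 ∨ (∃ x : ↥X, q = x.1 n) ∨ (∃ x : ↥X, q = x.1 m) := fun q => by
    rcases partition q with ⟨h, -, -⟩ | ⟨-, ⟨h, -⟩ | ⟨h, -⟩⟩
    · exact Or.inl h
    · obtain ⟨x, hx⟩ := hexM q h; exact Or.inr (Or.inr ⟨x, hx.symm⟩)
    · obtain ⟨x, hx⟩ := hexN q h; exact Or.inr (Or.inl ⟨x, hx.symm⟩)
  have hinj : Function.Injective θ := by
    intro p q hpq
    rcases hcase p with rfl | ⟨x, rfl⟩ | ⟨x, rfl⟩ <;> rcases hcase q with rfl | ⟨y, rfl⟩ | ⟨y, rfl⟩ <;>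
      simp only [θ0, θN, θM] at hpq
    · rfl
    · exact absurd hpq.symm (hne b (by omega) y)
    · exact absurd hpq.symm (hne c (by omega) y)
    · exact absurd hpq (hne b (by omega) x)
    · exact (keyN x y).2 hpq
    · exact absurd hpq (hbc x y)
    · exact absurd hpq (hne c (by omega) x)
    · exact absurd hpq.symm (hbc y x)
    · exact (keyM x y).2 hpq
  have hequiv : ∀ (x : ↥X) (q : V), θ (x.1 q) = φ x • θ q := by
    intro x q
    rcases hcase q with rfl | ⟨y, rfl⟩ | ⟨y, rfl⟩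
    · rw [X_fix x.2, θ0, hfixa]
    · rw [θN, ← Equiv.Perm.mul_apply, show x.1 * y.1 = (x * y).1 from rfl, θN, map_mul, mul_smul]
    · rw [θM, ← Equiv.Perm.mul_apply, show x.1 * y.1 = (x * y).1 from rfl, θM, map_mul, mul_smul]
  let Θ : V ≃ Ω := Equiv.ofBijective θ ((Fintype.bijective_iff_injective_and_card θ).2
    ⟨hinj, by rw [Fintype.card_fin, hΩ]⟩)
  let ψ : Equiv.Perm Ω ≃* Equiv.Perm V := Equiv.permCongrHom Θ.symm
  have hψ : ∀ (g : Equiv.Perm Ω) (q : V), Θ (ψ g q) = g (Θ q) := fun g q => by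
    simp [ψ, Equiv.permCongrHom, Equiv.permCongr_apply]
  have hψx : ∀ x : ↥X, ψ ((φ x : ↥G) : Equiv.Perm Ω) = x.1 := fun x =>
    Equiv.ext fun q => Θ.injective ((hψ _ q).trans (hequiv x q).symm)
  have S : Setting (G.map ψ.toMonoidHom) := by
    refine ⟨fun q => ?_, ?_, fun g hg => ?_⟩
    · obtain ⟨g, hg⟩ := MulAction.exists_smul_eq G a (θ q)
      refine ⟨ψ g.1, ⟨g.1, g.2, rfl⟩, Θ.injective ?_⟩
      rw [hψ]
      show (g.1 : Equiv.Perm Ω) (θ 0) = θ q
      rw [θ0]
      exact hg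
    · rintro _ ⟨g, hg, rfl⟩
      constructor
      · intro h0
        have h1 : (g : Equiv.Perm Ω) a = a := by
          have := hψ g 0
          rw [show ψ g 0 = 0 from h0] at this
          rw [show Θ 0 = a from θ0] at this
          exact this.symm
        have hmem : (⟨g, hg⟩ : ↥G) ∈ stabilizer (↥G) a := h1
        obtain ⟨x, hx⟩ := φ.surjective ⟨⟨g, hg⟩, hmem⟩
        show ψ g ∈ X
        have := hψx x
        rw [hx] at this
        rw [show ψ g = x.1 from this]
        exact x.2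
      · exact X_fix
    · exact ⟨_, (φ ⟨g, hg⟩ : ↥G).2, hψx ⟨g, hg⟩⟩
  obtain ⟨eR⟩ := nonempty_equiv_Suz
  exact ⟨((G.equivMapOfInjective ψ.toMonoidHom ψ.injective).trans (MulEquiv.subgroupCongr (eq_SuzP S))).trans eR⟩

end CfsgLib.Spor.SuzThree
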