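import Cfsg.Agent.Lib.Spor.SuzThree.FlagCheck0
import Cfsg.Agent.Lib.Spor.SuzThree.FlagCheck1
import Cfsg.Agent.Lib.Spor.SuzThree.FlagCheck2
import Cfsg.Agent.Lib.Spor.SuzThree.FlagCheck3
import Cfsg.Agent.Lib.Spor.SuzThree.FlagCheck4
import Mathlib.GroupTheory.Sylow

/-!
# Subgroups of index 1365 of the point stabiliser fix a point or a line
-/

set_option autoImplicit false
set_option maxRecDepth 100000

namespace CfsgLib.Spor.SuzThree

open CfsgLib.Spor.TC
open FlagData (memNat_complete nodupB nodupB_spec)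

/-- A tree of pairs bounds a group containing its words from below. -/
theorem PairTree.card_le (P : PairTree) (hw : P.wordsB = true) (hrow : ∀ i < P.n, P.rowB i = true)
    (hroot : P.root < P.n) (K : Subgroup (Equiv.Perm V)) (hK : ∀ w ∈ P.words, wp w ∈ K) : P.n ≤ Nat.card K := by
  simp only [PairTree.wordsB, List.all_eq_true, decide_eq_true_eq] at hw
  have hr := hrow
  have hxy : ∀ i < P.n, P.x i < 1782 ∧ P.y i < 1782 := fun i hi => by
    have h := hr i hi
    simp only [PairTree.rowB, Bool.and_eq_true] at h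
    exact ⟨Nat.le_of_ble_eq_true h.1.1.1, Nat.le_of_ble_eq_true h.1.1.2⟩
  have hreach : ∀ i < P.n, ∃ g ∈ K, g (pt (P.x P.root)) = pt (P.x i) ∧ g (pt (P.y P.root)) = pt (P.y i) := by
    intro i
    induction' hd : P.dep i using Nat.strong_induction_on with d ih generalizing i
    intro hi
    by_cases he : i = P.root
    · subst he; exact ⟨1, one_mem _, rfl, rfl⟩
    have h := hr i hi
    simp only [PairTree.rowB, Bool.and_eq_true, Bool.or_eq_true] at h
    obtain ⟨-, e | ⟨⟨⟨⟨h1, h2⟩, h3⟩, h4⟩, h5⟩⟩ := h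
    · exact absurd (Nat.eq_of_beq_eq_true e) he
    obtain ⟨g, hg, gx, gy⟩ := ih _ (hd ▸ Nat.le_of_ble_eq_true h2) _ rfl (Nat.le_of_ble_eq_true h1)
    have hwm : P.words.getD (P.lt i) [] ∈ P.words := by
      rw [List.getD_eq_getElem _ _ (Nat.le_of_ble_eq_true h3)]; exact List.getElem_mem _
    have hp := hxy _ (Nat.le_of_ble_eq_true h1)
    refine ⟨_, mul_mem (hK _ hwm) hg, ?_, ?_⟩
    · rw [Equiv.Perm.mul_apply, gx, (wp_pt (hw _ hwm) hp.1).1, Nat.eq_of_beq_eq_true h4]
    · rw [Equiv.Perm.mul_apply, gy, (wp_pt (hw _ hwm) hp.2).1, Nat.eq_of_beq_eq_true h5]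
  choose g hg gx gy using hreach
  have hmono : ∀ k < P.n, ∀ i < k, P.x i * 4096 + P.y i < P.x k * 4096 + P.y k := by
    intro k
    induction k with
    | zero => intro _ i hi; omega
    | succ k ih =>
      intro hk i hi
      have h := hr (k + 1) hk
      simp only [PairTree.rowB, Bool.and_eq_true, Bool.or_eq_true] at h
      rcases h.1.2 with e | e
      · exact absurd (Nat.eq_of_beq_eq_true e) (Nat.succ_ne_zero _)
      · have e' : P.x k * 4096 + P.y k < P.x (k + 1) * 4096 + P.y (k + 1) := Nat.le_of_ble_eq_true e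
        rcases Nat.lt_succ_iff_lt_or_eq.1 hi with h' | rfl
        · exact (ih (Nat.lt_of_succ_lt hk) i h').trans e'
        · exact e'
  have hinj : Function.Injective fun i : Fin P.n => (⟨g i.1 i.2, hg i.1 i.2⟩ : K) := by
    intro i k hik
    have e : g i.1 i.2 = g k.1 k.2 := congrArg Subtype.val hik
    have ex := pt_inj (hxy _ i.2).1 (hxy _ k.2).1 ((gx _ i.2).symm.trans (by rw [e, gx _ k.2]))
    have ey := pt_inj (hxy _ i.2).2 (hxy _ k.2).2 ((gy _ i.2).symm.trans (by rw [e, gy _ k.2]))
    rcases lt_trichotomy i.1 k.1 with h | h | h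
    · have := hmono _ k.2 _ h; omega
    · exact Fin.ext h
    · have := hmono _ i.2 _ h; omega
  simpa using Nat.card_le_card_of_injective _ hinj

namespace FlagData

theorem row (i : ℕ) (hi : i < 6825) : rowB i = true := by
  rcases Nat.lt_or_ge i 760 with h | h
  · exact allFrom_spec rows0 i (by omega) (by omega)
  rcases Nat.lt_or_ge i 1520 with h | h
  · exact allFrom_spec rows1 i (by omega) (by omega)
  rcases Nat.lt_or_ge i 2275 with h | h
  · exact allFrom_spec rows2 i (by omega) (by omega)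
  rcases Nat.lt_or_ge i 3035 with h | h
  · exact allFrom_spec rows3 i (by omega) (by omega)
  rcases Nat.lt_or_ge i 3795 with h | h
  · exact allFrom_spec rows4 i (by omega) (by omega)
  rcases Nat.lt_or_ge i 4550 with h | h
  · exact allFrom_spec rows5 i (by omega) (by omega)
  rcases Nat.lt_or_ge i 5310 with h | h
  · exact allFrom_spec rows6 i (by omega) (by omega)
  rcases Nat.lt_or_ge i 6070 with h | h
  · exact allFrom_spec rows7 i (by omega) (by omega)
  exact allFrom_spec rows8 i h (by omega)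

theorem lnext (l : ℕ) (hl : l < 1365) : lnextB l = true := by
  rcases Nat.lt_or_ge l 455 with h | h
  · exact allFrom_spec lnext0 l (Nat.zero_le _) (by omega)
  rcases Nat.lt_or_ge l 910 with h' | h'
  · exact allFrom_spec lnext1 l h (by omega)
  · exact allFrom_spec lnext2 l h' (by omega)

theorem sTree_ok : ∀ i < 4096, sTree.rowB i = true := by
  intro i hi
  rcases Nat.lt_or_ge i 2048 with h | h
  · exact allFrom_spec sTree0 i (Nat.zero_le _) (by omega)
  · exact allFrom_spec sTree1 i h (by omega)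

attribute [local irreducible] code nx sx

/-- The data of one line. -/
structure LineOK (l : ℕ) : Prop where
  sorted : (ql l).Pairwise (· < ·)
  small : ∀ q ∈ ql l, q < 1782
  mono : l ≠ 0 → code (l - 1) < code l

theorem lineOK {l : ℕ} (hl : l < 1365) : LineOK l := by
  have h := allFrom_spec lines_ok l (Nat.zero_le _) (by omega)
  simp only [lineB, Bool.and_eq_true, Bool.or_eq_true] at h
  obtain ⟨⟨⟨⟨⟨h01, h12⟩, h23⟩, h34⟩, h4⟩, hmono⟩ := h
  have e := fun {a b : ℕ} (h : Nat.blt a b = true) => (Nat.le_of_ble_eq_true h : a < b)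
  have := e h01
  have := e h12
  have := e h23
  have := e h34
  have := e h4
  refine ⟨?_, ?_, fun hne => ?_⟩
  · simp [ql]; omega
  · simp [ql]; omega
  · rcases hmono with e' | e'
    · exact absurd (Nat.eq_of_beq_eq_true e') hne
    · exact Nat.le_of_ble_eq_true e'

theorem card_lineSet {l : ℕ} (hl : l < 1365) : (lineSet l).card = 5 := by
  have r := lineOK hl
  rw [lineSet, List.toFinset_card_of_nodup]
  · simp [ql]
  · exact List.Nodup.map_on (fun a ha b hb e => pt_inj (r.small a ha) (r.small b hb) e)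
      (r.sorted.imp fun h => h.ne)

theorem lineSet_inj {i k : ℕ} (hi : i < 1365) (hk : k < 1365) (h : lineSet i = lineSet k) : i = k := by
  have ri := lineOK hi
  have rk := lineOK hk
  have e : (ql i).toFinset = (ql k).toFinset := by
    have hv : ∀ j, LineOK j → (lineSet j).image Fin.val = (ql j).toFinset := by
      intro j rj
      ext q
      simp only [lineSet, Finset.mem_image, List.mem_toFinset, List.mem_map]
      constructor
      · rintro ⟨v, ⟨a, ha, rfl⟩, rfl⟩
        rwa [pt_val (rj.small a ha)]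
      · exact fun hq => ⟨pt q, ⟨q, hq, rfl⟩, pt_val (rj.small q hq)⟩
    rw [← hv i ri, ← hv k rk, h]
  have hl : ql i = ql k :=
    (List.perm_of_nodup_nodup_toFinset_eq (ri.sorted.imp fun h => h.ne) (rk.sorted.imp fun h => h.ne) e).eq_of_pairwise
      (fun a b _ _ h1 h2 => absurd h2 h1.asymm) ri.sorted rk.sorted
  have hc : code i = code k := by
    simp only [ql, List.cons.injEq] at hl
    unfold code
    rw [hl.1, hl.2.1]
  have strict : ∀ k < 1365, ∀ i < k, code i < code k := by
    intro k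
    induction k with
    | zero => intro _ i hi; omega
    | succ k ih =>
      intro hk i hi
      have := (lineOK hk).mono (Nat.succ_ne_zero _)
      rw [Nat.succ_sub_one] at this
      rcases Nat.lt_succ_iff_lt_or_eq.1 hi with h' | rfl
      · exact (ih (Nat.lt_of_succ_lt hk) i h').trans this
      · exact this
  rcases lt_trichotomy i k with hlt | heq | hlt
  · exact absurd hc (strict k hk i hlt).ne
  · exact heq
  · exact absurd hc (strict i hi k hlt).ne'

theorem qq_eq {j : ℕ} (hj : j < 5) (l : ℕ) : qq j l = (ql l).getD j 0 := by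
  interval_cases j <;> rfl

theorem point_mem {i : ℕ} : point i ∈ ql (i / 5) := by
  rw [point, qq_eq (Nat.mod_lt _ (by norm_num)), List.getD_eq_getElem _ _ (by simp [ql]; omega)]
  exact List.getElem_mem _

theorem point_lt {i : ℕ} (hi : i < 6825) : point i < 1782 := (lineOK (by omega)).small _ point_mem

theorem flag_inj {i k : ℕ} (hi : i < 6825) (hk : k < 6825) (h : flag i = flag k) : i = k := by
  have hl : i / 5 = k / 5 := lineSet_inj (by omega) (by omega) (congrArg Prod.snd h)
  have hp : point i = point k := pt_inj (point_lt hi) (point_lt hk) (congrArg Prod.fst h)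
  have r := lineOK (show i / 5 < 1365 by omega)
  rw [point, point, ← hl, qq_eq (Nat.mod_lt _ (by norm_num)), qq_eq (Nat.mod_lt _ (by norm_num)),
    List.getD_eq_getElem _ _ (by simp [ql]; omega), List.getD_eq_getElem _ _ (by simp [ql]; omega)] at hp
  have := (List.Nodup.getElem_inj_iff (r.sorted.imp fun h => h.ne)).1 hp
  omega

theorem step_spec {w : List ℕ} (hw : ∀ x ∈ w, x < 10) {i k : ℕ} (hi : i < 6825) (h : stepB w i k = true) :
    k < 6825 ∧ fact (wp w) (flag i) = flag k := by
  simp only [stepB, lstepB, Bool.and_eq_true] at h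
  have hk : k < 6825 := Nat.le_of_ble_eq_true h.1.1
  refine ⟨hk, Prod.ext ?_ ?_⟩
  · show wp w (pt (point i)) = pt (point k)
    rw [(wp_pt hw (point_lt hi)).1, Nat.eq_of_beq_eq_true h.1.2]
  · show img (wp w) (lineSet (i / 5)) = lineSet (k / 5)
    refine Finset.eq_of_subset_of_card_le (fun v hv => ?_) (le_of_eq ?_)
    · simp only [img, lineSet, Finset.mem_image, List.mem_toFinset, List.mem_map] at hv
      obtain ⟨u, ⟨a, ha, rfl⟩, rfl⟩ := hv
      simp only [lineSet, List.mem_toFinset, List.mem_map]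
      exact ⟨wv w a, memNat_spec (allList_spec h.2 a ha),
        ((wp_pt hw ((lineOK (show i / 5 < 1365 by omega)).small a ha)).1).symm⟩
    · rw [img, Finset.card_image_of_injective _ (wp w).injective, card_lineSet (by omega), card_lineSet (by omega)]

/-- The data of one row. -/
structure RowOK (i : ℕ) : Prop where
  next : ∀ j < 6, stepB [j] i (nx j i) = true
  up : i ≠ root → par.get 16 i < 6825 ∧ depth.get 8 (par.get 16 i) < depth.get 8 i ∧ plet.get 8 i < 6 ∧
    nx (plet.get 8 i) (par.get 16 i) = i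
  snext : ∀ j < 4, stepB (sWords.getD j []) i (sx j i) = true
  hcls : cls.get 8 i < 12
  hlet : slet.get 8 i < 4
  down : i ≠ reps.getD (cls.get 8 i) 0 → sdepth.get 8 (sx (slet.get 8 i) i) < sdepth.get 8 i ∧
    cls.get 8 (sx (slet.get 8 i) i) = cls.get 8 i

theorem rowOK {i : ℕ} (hi : i < 6825) : RowOK i := by
  have h := row i hi
  have hl := lnext (i / 5) (by omega)
  simp only [rowB, Bool.and_eq_true, Bool.or_eq_true] at h
  simp only [lnextB, Bool.and_eq_true] at hl
  obtain ⟨⟨⟨⟨⟨⟨⟨⟨⟨⟨⟨⟨⟨s0, s1⟩, s2⟩, s3⟩, s4⟩, s5⟩, hup⟩, t0⟩, t1⟩, t2⟩, t3⟩, hc⟩, hlet⟩, hdown⟩ := h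
  obtain ⟨⟨⟨⟨⟨⟨⟨⟨⟨l0, l1⟩, l2⟩, l3⟩, l4⟩, l5⟩, u0⟩, u1⟩, u2⟩, u3⟩ := hl
  have comb : ∀ {w : List ℕ} {k lk : ℕ}, pstepB w i k lk = true → lstepB w (i / 5) lk = true →
      stepB w i k = true := by
    intro w k lk hp hq
    simp only [pstepB, Bool.and_eq_true] at hp
    simp only [stepB, Bool.and_eq_true]
    exact ⟨hp.1, by rw [Nat.eq_of_beq_eq_true hp.2]; exact hq⟩
  refine ⟨fun j hj => ?_, fun hne => ?_, fun j hj => ?_, Nat.le_of_ble_eq_true hc, Nat.le_of_ble_eq_true hlet,
    fun hne => ?_⟩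
  · interval_cases j
    exacts [comb s0 l0, comb s1 l1, comb s2 l2, comb s3 l3, comb s4 l4, comb s5 l5]
  · rcases hup with e | ⟨⟨⟨e1, e2⟩, e3⟩, e4⟩
    · exact absurd (Nat.eq_of_beq_eq_true e) hne
    · exact ⟨Nat.le_of_ble_eq_true e1, Nat.le_of_ble_eq_true e2, Nat.le_of_ble_eq_true e3, Nat.eq_of_beq_eq_true e4⟩
  · interval_cases j
    exacts [comb t0 u0, comb t1 u1, comb t2 u2, comb t3 u3]
  · rcases hdown with e | ⟨e1, e2⟩
    · exact absurd (Nat.eq_of_beq_eq_true e) hne
    · exact ⟨Nat.le_of_ble_eq_true e1, Nat.eq_of_beq_eq_true e2⟩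

theorem hLet_getD : ∀ j < 6, hLet.getD j 0 = j ∧ j ∈ hLet := by decide

/-- The orbit of the root flag under the stabiliser. -/
theorem orbit_root : {f | ∃ g ∈ X, fact g (flag root) = f} = flag '' Set.Iio 6825 := by
  have hroot : root < 6825 := by decide +kernel
  refine Set.Subset.antisymm ?_ ?_
  · rintro f ⟨g, hg, rfl⟩
    suffices ∀ i < 6825, ∃ k < 6825, fact g (flag i) = flag k by
      obtain ⟨k, hk, e⟩ := this root hroot
      exact ⟨k, hk, e.symm⟩
    induction hg using Subgroup.closure_induction with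
    | mem x hx =>
      obtain ⟨l, hl, rfl⟩ := hx
      have hl6 : l < 6 := (by decide : ∀ l ∈ hLet, l < 6) l hl
      intro i hi
      obtain ⟨hk, e⟩ := step_spec (w := [l]) (fun x hx => by rw [List.mem_singleton.1 hx]; omega) hi
        ((rowOK hi).next l hl6)
      exact ⟨_, hk, by rw [← e]; simp [wp, ev]⟩
    | one => exact fun i hi => ⟨i, hi, fact_one _⟩
    | mul x y _ _ ihx ihy =>
      intro i hi
      obtain ⟨k, hk, e⟩ := ihy i hi
      obtain ⟨k', hk', e'⟩ := ihx k hk
      exact ⟨k', hk', by rw [fact_mul, e, e']⟩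
    | inv x _ ihx =>
      intro i hi
      choose t ht he using ihx
      let φ : Fin 6825 → Fin 6825 := fun a => ⟨t a.1 a.2, ht a.1 a.2⟩
      have hinj : Function.Injective φ := fun a b hab => Fin.ext (flag_inj a.2 b.2 (by
        have hv : flag (φ a).1 = flag (φ b).1 := by rw [hab]
        have := (he a.1 a.2).trans (hv.trans (he b.1 b.2).symm)
        simpa [← fact_mul, fact_one] using congrArg (fact x⁻¹) this))
      obtain ⟨a, ha⟩ := (Finite.injective_iff_surjective.1 hinj) ⟨i, hi⟩
      refine ⟨a.1, a.2, fact_inv ?_⟩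
      rw [he a.1 a.2]
      exact congrArg flag (congrArg Fin.val ha)
  · rintro f ⟨i, hi, rfl⟩
    induction' hd : depth.get 8 i using Nat.strong_induction_on with d ih generalizing i
    by_cases hr : i = root
    · subst hr; exact ⟨1, one_mem _, fact_one _⟩
    obtain ⟨hp, hlt, hj, he⟩ := (rowOK hi).up hr
    obtain ⟨g, hg, eg⟩ := ih _ (hd ▸ hlt) _ hp rfl
    obtain ⟨-, e⟩ := step_spec (w := [plet.get 8 i]) (fun x hx => by rw [List.mem_singleton.1 hx]; omega) hp
      ((rowOK hp).next _ hj)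
    rw [he] at e
    exact ⟨_, mul_mem (wp_mem_X (w := [plet.get 8 i]) fun x hx => by
      rw [List.mem_singleton.1 hx]; exact (hLet_getD _ hj).2) hg, by rw [fact_mul, eg, e]⟩

end FlagData

open FlagData

/-- The root line. -/
noncomputable def line0 : Finset V := lineSet 0

theorem root_eq : root = 0 ∧ point root = 1 := by
  have h := misc_ok
  simp only [miscB, Bool.and_eq_true] at h
  exact ⟨Nat.eq_of_beq_eq_true h.1.1.1.1.1.1.1.1.1.1, Nat.eq_of_beq_eq_true h.1.1.1.1.1.1.1.1.1.2⟩

theorem flag_root : flag root = (m0, line0) := by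
  unfold flag
  rw [root_eq.2, root_eq.1]
  rfl

/-- The orbit of the root line. -/
theorem orbit_line : {s | ∃ g ∈ X, img g line0 = s} = lineSet '' Set.Iio 1365 := by
  refine Set.Subset.antisymm ?_ ?_
  · rintro s ⟨g, hg, rfl⟩
    obtain ⟨k, hk, e⟩ : fact g (flag root) ∈ flag '' Set.Iio 6825 := by rw [← orbit_root]; exact ⟨g, hg, rfl⟩
    rw [flag_root] at e
    exact ⟨k / 5, by simp only [Set.mem_Iio] at hk ⊢; omega, (congrArg Prod.snd e : lineSet (k / 5) = img g line0)⟩
  · rintro s ⟨l, hl, rfl⟩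
    obtain ⟨g, hg, e⟩ : flag (5 * l) ∈ {f | ∃ g ∈ X, fact g (flag root) = f} := by
      rw [orbit_root]; exact ⟨5 * l, by simp only [Set.mem_Iio] at hl ⊢; omega, rfl⟩
    rw [flag_root] at e
    refine ⟨g, hg, ?_⟩
    have h2 : img g line0 = lineSet (5 * l / 5) := congrArg Prod.snd e
    rwa [Nat.mul_div_cancel_left l (by norm_num : 0 < 5)] at h2

theorem ncard_lines : {s | ∃ g ∈ X, img g line0 = s}.ncard = 1365 := by
  rw [orbit_line, Set.InjOn.ncard_image (fun i hi k hk => lineSet_inj (Set.mem_Iio.1 hi) (Set.mem_Iio.1 hk)),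
    ← Finset.coe_Iio, Set.ncard_coe_finset, Nat.card_Iio]

/-- The stabiliser of the root flag. -/
noncomputable def FlagStab : Subgroup (Equiv.Perm V) where
  carrier := {g | g ∈ X ∧ fact g (flag root) = flag root}
  one_mem' := ⟨one_mem _, fact_one _⟩
  mul_mem' := fun ha hb => ⟨mul_mem ha.1 hb.1, by rw [fact_mul, hb.2, ha.2]⟩
  inv_mem' := fun ha => ⟨inv_mem ha.1, fact_inv ha.2⟩

theorem fact_orbit_card (L : Subgroup (Equiv.Perm V)) (f : Flag) (K : Subgroup (Equiv.Perm V)) (hK : K ≤ L)
    (hKf : ∀ g, g ∈ L → (fact g f = f ↔ g ∈ K)) :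
    {f' | ∃ g ∈ L, fact g f = f'}.ncard * Nat.card K = Nat.card L := by
  let A : MulAction L Flag :=
    { smul := fun g f => fact g.1 f
      one_smul := fact_one
      mul_smul := fun g h f => fact_mul g.1 h.1 f }
  letI := A
  have ho : {f' | ∃ g ∈ L, fact g f = f'} = MulAction.orbit L f :=
    Set.ext fun f' => ⟨fun ⟨g, hg, e⟩ => ⟨⟨g, hg⟩, e⟩, fun ⟨g, e⟩ => ⟨g.1, g.2, e⟩⟩
  have hs : MulAction.stabilizer L f = K.subgroupOf L := Subgroup.ext fun g => hKf g.1 g.2
  have h3 : Nat.card (K.subgroupOf L) = Nat.card K := Nat.card_congr (Subgroup.subgroupOfEquivOfLe hK).toEquiv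
  have h4 : Nat.card (MulAction.orbit L f) * Nat.card (MulAction.stabilizer L f) = Nat.card L := by
    rw [← Nat.card_prod]
    exact Nat.card_congr (MulAction.orbitProdStabilizerEquivGroup L f)
  rw [ho, ← Nat.card_coe_set_eq, ← h3, ← hs]
  exact h4

theorem card_FlagStab : Nat.card FlagStab = 36864 := by
  have h := fact_orbit_card X (flag root) FlagStab (fun g hg => hg.1) fun g hg =>
    ⟨fun e => ⟨hg, e⟩, fun e => e.2⟩
  rw [orbit_root, Set.InjOn.ncard_image (fun i hi k hk => flag_inj (Set.mem_Iio.1 hi) (Set.mem_Iio.1 hk)), card_X,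
    show (Set.Iio 6825 : Set ℕ).ncard = 6825 by
      rw [← Finset.coe_Iio, Set.ncard_coe_finset, Nat.card_Iio]] at h
  omega

/-- The image of a set of sets. -/
noncomputable def img2 (g : Equiv.Perm V) (P : Finset (Finset V)) : Finset (Finset V) := P.image (img g)

theorem img2_one (P : Finset (Finset V)) : img2 1 P = P := by
  simp [img2, show img (1 : Equiv.Perm V) = id from funext img_one]

theorem img2_mul (g h : Equiv.Perm V) (P : Finset (Finset V)) : img2 (g * h) P = img2 g (img2 h P) := by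
  show _ = Finset.image (img g) (Finset.image (img h) P)
  rw [Finset.image_image]
  exact Finset.image_congr fun x _ => img_mul g h x

/-- The set of a list. -/
noncomputable def setOf' (l : List ℕ) : Finset V := (l.map pt).toFinset

/-- The first partition. -/
noncomputable def part1' : Finset (Finset V) := {setOf' (parts.getD 0 []), setOf' (parts.getD 1 [])}

/-- The second partition. -/
noncomputable def part2' : Finset (Finset V) := {setOf' (parts.getD 2 []), setOf' (parts.getD 3 [])}

/-- A Sylow 2-subgroup: the stabiliser of the root flag and of two partitions. -/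
noncomputable def SylTwo : Subgroup (Equiv.Perm V) where
  carrier := {g | g ∈ FlagStab ∧ img2 g part1' = part1' ∧ img2 g part2' = part2'}
  one_mem' := ⟨one_mem _, img2_one _, img2_one _⟩
  mul_mem' := fun ha hb => ⟨mul_mem ha.1 hb.1, by rw [img2_mul, hb.2.1, ha.2.1], by rw [img2_mul, hb.2.2, ha.2.2]⟩
  inv_mem' := fun {a} ha => ⟨inv_mem ha.1,
    by conv_lhs => rw [← ha.2.1, ← img2_mul, inv_mul_cancel, img2_one],
    by conv_lhs => rw [← ha.2.2, ← img2_mul, inv_mul_cancel, img2_one]⟩

theorem img_setOf' {w A : List ℕ} (hw : ∀ x ∈ w, x < 10) (hA : ∀ q ∈ A, q < 1782) :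
    img (wp w) (setOf' A) = setOf' (A.map (wv w)) := by
  ext v
  simp only [img, setOf', Finset.mem_image, List.mem_toFinset, List.mem_map]
  constructor
  · rintro ⟨u, ⟨a, ha, rfl⟩, rfl⟩
    exact ⟨wv w a, ⟨a, ha, rfl⟩, ((wp_pt hw (hA a ha)).1).symm⟩
  · rintro ⟨b, ⟨a, ha, rfl⟩, rfl⟩
    exact ⟨pt a, ⟨a, ha, rfl⟩, (wp_pt hw (hA a ha)).1⟩

theorem img_eq_of_into {w A B : List ℕ} (hw : ∀ x ∈ w, x < 10) (hA : ∀ q ∈ A, q < 1782) (hn : A.Nodup)
    (hlen : B.length ≤ A.length) (h : intoB w A B = true) : img (wp w) (setOf' A) = setOf' B := by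
  refine Finset.eq_of_subset_of_card_le (fun v hv => ?_) ?_
  · rw [img_setOf' hw hA] at hv
    simp only [setOf', List.mem_toFinset, List.mem_map] at hv ⊢
    obtain ⟨b, ⟨a, ha, rfl⟩, rfl⟩ := hv
    exact ⟨wv w a, memNat_spec (allList_spec h a ha), rfl⟩
  · rw [img, Finset.card_image_of_injective _ (wp w).injective, setOf', setOf',
      List.toFinset_card_of_nodup (List.Nodup.map_on (fun a ha b hb e => pt_inj (hA a ha) (hA b hb) e) hn),
      List.length_map]
    exact (List.toFinset_card_le _).trans (by rw [List.length_map]; exact hlen)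

theorem into_of_img_eq {u v A B : List ℕ} (hu : ∀ x ∈ u, x < 10) (hv : ∀ x ∈ v, x < 10)
    (hA : ∀ q ∈ A, q < 1782) (hB : ∀ q ∈ B, q < 1782) (h : img (wp u) (setOf' A) = img (wp v) (setOf' B)) :
    intoB u A (B.map (wv v)) = true := by
  rw [img_setOf' hu hA, img_setOf' hv hB] at h
  have key : ∀ q ∈ A, memNat (wv u q) (B.map (wv v)) = true := fun q hq => by
    have hm : pt (wv u q) ∈ setOf' (B.map (wv v)) := by
      rw [← h]; simp only [setOf', List.mem_toFinset, List.mem_map]; exact ⟨_, ⟨q, hq, rfl⟩, rfl⟩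
    simp only [setOf', List.mem_toFinset, List.mem_map] at hm
    obtain ⟨b, ⟨c, hc, rfl⟩, e⟩ := hm
    exact memNat_complete (List.mem_map.2 ⟨c, hc, pt_inj (wp_pt hv (hB c hc)).2 (wp_pt hu (hA q hq)).2 e⟩)
  unfold intoB
  clear h hA hB
  induction A with
  | nil => rfl
  | cons a A ih =>
    show (memNat (wv u a) (B.map (wv v)) && allList _ A) = true
    rw [key a List.mem_cons_self, Bool.true_and]
    exact ih fun q hq => key q (List.mem_cons_of_mem _ hq)

/-- The single facts. -/
structure Misc : Prop where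
  words : ∀ w ∈ sWords, (∀ a ∈ w, a < 6) ∧ stepB w root root = true ∧
    fixPartB w (parts.getD 0 []) (parts.getD 1 []) = true ∧ fixPartB w (parts.getD 2 []) (parts.getD 3 []) = true
  len : sWords.length = 4
  nineW : ∀ w ∈ nine, (∀ a ∈ w, a < 6) ∧ stepB w root root = true
  nineLen : nine.length = 9
  apart : ∀ i < 9, ∀ j < 9, i ≠ j →
    apartB (nine.getD i []) (nine.getD j []) (parts.getD 0 []) (parts.getD 1 []) = true ∨
    apartB (nine.getD i []) (nine.getD j []) (parts.getD 2 []) (parts.getD 3 []) = true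
  small : ∀ k < 4, (parts.getD k []).Nodup ∧ ∀ q ∈ parts.getD k [], q < 1782
  len01 : (parts.getD 0 []).length = (parts.getD 1 []).length
  len23 : (parts.getD 2 []).length = (parts.getD 3 []).length
  pairRoot_lt : pairRoot < 4096

theorem misc : Misc := by
  have h := misc_ok
  simp only [miscB, Bool.and_eq_true, Bool.or_eq_true, List.all_eq_true, List.mem_range] at h
  obtain ⟨⟨⟨⟨⟨⟨⟨⟨⟨⟨-, -⟩, hs⟩, hl⟩, h9⟩, h9l⟩, hap⟩, hsm⟩, h01⟩, h23⟩, hp⟩ := h
  refine ⟨fun w hw => ⟨fun a ha => Nat.le_of_ble_eq_true ((hs w hw).1.1.1 a ha), (hs w hw).1.1.2, (hs w hw).1.2,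
    (hs w hw).2⟩, Nat.eq_of_beq_eq_true hl, fun w hw => ⟨fun a ha => Nat.le_of_ble_eq_true ((h9 w hw).1 a ha),
    (h9 w hw).2⟩, Nat.eq_of_beq_eq_true h9l, fun i hi j hj hne => ?_,
    fun k hk => ⟨nodupB_spec (hsm k hk).1, fun q hq => Nat.le_of_ble_eq_true ((hsm k hk).2 q hq)⟩,
    Nat.eq_of_beq_eq_true h01, Nat.eq_of_beq_eq_true h23, Nat.le_of_ble_eq_true hp⟩
  rcases hap i hi j hj with (e | e) | e
  · exact absurd (Nat.eq_of_beq_eq_true e) hne
  · exact Or.inl e
  · exact Or.inr e

theorem word_flagStab {w : List ℕ} (hw : ∀ a ∈ w, a < 6) (h : stepB w root root = true) : wp w ∈ FlagStab :=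
  ⟨wp_mem_X fun x hx => (hLet_getD x (hw x hx)).2,
    (step_spec (fun x hx => by have := hw x hx; omega) (by rw [root_eq.1]; norm_num) h).2⟩

theorem sWord_mem : ∀ w ∈ sWords, wp w ∈ SylTwo := by
  intro w hw
  obtain ⟨h6, hstep, h1, h2⟩ := misc.words w hw
  have hw10 : ∀ a ∈ w, a < 10 := fun a ha => by have := h6 a ha; omega
  have key : ∀ a b, a < 4 → b < 4 → (parts.getD a []).length = (parts.getD b []).length →
      fixPartB w (parts.getD a []) (parts.getD b []) = true →
      img2 (wp w) {setOf' (parts.getD a []), setOf' (parts.getD b [])} =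
        {setOf' (parts.getD a []), setOf' (parts.getD b [])} := by
    intro a b ha hb hlen h
    simp only [fixPartB, Bool.and_eq_true, Bool.or_eq_true] at h
    obtain ⟨na, sa⟩ := misc.small a ha
    obtain ⟨nb, sb⟩ := misc.small b hb
    rw [img2, Finset.image_insert, Finset.image_singleton]
    rcases h with ⟨e1, e2⟩ | ⟨e1, e2⟩
    · rw [img_eq_of_into hw10 sa na le_rfl e1, img_eq_of_into hw10 sb nb le_rfl e2]
    · rw [img_eq_of_into hw10 sa na hlen.ge e1, img_eq_of_into hw10 sb nb hlen.le e2, Finset.pair_comm]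
  exact ⟨word_flagStab h6 hstep, key 0 1 (by norm_num) (by norm_num) misc.len01 h1,
    key 2 3 (by norm_num) (by norm_num) misc.len23 h2⟩

theorem card_SylTwo : Nat.card SylTwo = 4096 := by
  refine le_antisymm ?_ (sTree.card_le ?_ sTree_ok misc.pairRoot_lt SylTwo sWord_mem)
  · have hmem : ∀ i < 9, nine.getD i [] ∈ nine := fun i hi => by
      rw [List.getD_eq_getElem _ _ (by rw [misc.nineLen]; exact hi)]; exact List.getElem_mem _
    let f : Fin 9 × SylTwo → FlagStab := fun p => ⟨wp (nine.getD p.1 []) * p.2.1,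
      mul_mem (word_flagStab (misc.nineW _ (hmem _ p.1.2)).1 (misc.nineW _ (hmem _ p.1.2)).2) p.2.2.1⟩
    have hf : Function.Injective f := by
      rintro ⟨i, s⟩ ⟨j, t⟩ hst
      have e : wp (nine.getD i []) * s.1 = wp (nine.getD j []) * t.1 := congrArg Subtype.val hst
      by_cases hij : i = j
      · subst hij
        exact Prod.ext rfl (Subtype.ext (mul_left_cancel e))
      exfalso
      have w10 : ∀ k < 9, ∀ a ∈ nine.getD k [], a < 10 := fun k hk a ha => by
        have := (misc.nineW _ (hmem k hk)).1 a ha; omega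
      have e1 := congrArg (fun g => img2 g part1') e
      have e2 := congrArg (fun g => img2 g part2') e
      simp only [img2_mul, s.2.2.1, t.2.2.1, s.2.2.2, t.2.2.2] at e1 e2
      have key : ∀ a b, a < 4 → b < 4 →
          img2 (wp (nine.getD i [])) {setOf' (parts.getD a []), setOf' (parts.getD b [])} =
            img2 (wp (nine.getD j [])) {setOf' (parts.getD a []), setOf' (parts.getD b [])} →
          apartB (nine.getD i []) (nine.getD j []) (parts.getD a []) (parts.getD b []) = false := by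
        intro a b ha hb h
        have hm : img (wp (nine.getD i [])) (setOf' (parts.getD a [])) ∈
            img2 (wp (nine.getD j [])) {setOf' (parts.getD a []), setOf' (parts.getD b [])} := by
          rw [← h]; exact Finset.mem_image_of_mem _ (Finset.mem_insert_self _ _)
        rw [img2, Finset.image_insert, Finset.image_singleton, Finset.mem_insert, Finset.mem_singleton] at hm
        rcases hm with hm | hm
        · rw [apartB, into_of_img_eq (w10 _ i.2) (w10 _ j.2) (misc.small a ha).2 (misc.small a ha).2 hm, Bool.not_true,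
            Bool.false_and]
        · rw [apartB, into_of_img_eq (w10 _ i.2) (w10 _ j.2) (misc.small a ha).2 (misc.small b hb).2 hm, Bool.not_true,
            Bool.and_false]
      rcases misc.apart i i.2 j j.2 (fun h => hij (Fin.ext h)) with h | h
      · rw [key 0 1 (by norm_num) (by norm_num) e1] at h; cases h
      · rw [key 2 3 (by norm_num) (by norm_num) e2] at h; cases h
    have h := Nat.card_le_card_of_injective f hf
    rw [Nat.card_prod, Nat.card_eq_fintype_card (α := Fin 9), Fintype.card_fin, card_FlagStab] at h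
    omega
  · simp only [PairTree.wordsB, sTree, List.all_eq_true, decide_eq_true_eq]
    exact fun w hw a ha => lt_trans ((misc.words w hw).1 a ha) (by norm_num)

theorem conj_le (L : Subgroup (Equiv.Perm V)) (hLX : L ≤ X) {p k : ℕ} [Fact p.Prime]
    (S : Subgroup (Equiv.Perm V)) (hSX : S ≤ X) (hS : Nat.card S = p ^ k) (hmax : ¬ p ^ (k + 1) ∣ 251596800)
    (hdvd : p ^ k ∣ Nat.card L) : ∃ x ∈ X, ∀ s ∈ S, x * s * x⁻¹ ∈ L := by
  obtain ⟨Q, hQ⟩ := Sylow.exists_subgroup_card_pow_prime (G := L) p hdvd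
  have hfac : ∀ R : Subgroup X, Nat.card R = p ^ k → Nat.card R = p ^ (Nat.card X).factorization p := by
    intro R hR
    rw [hR, card_X]
    congr 1
    have hp := (Fact.out : p.Prime)
    have h1 : p ^ k ∣ 251596800 := hR ▸ card_X ▸ Subgroup.card_subgroup_dvd_card R
    refine le_antisymm ((hp.pow_dvd_iff_le_factorization (by norm_num)).1 h1) ?_
    by_contra hlt
    exact hmax ((hp.pow_dvd_iff_le_factorization (by norm_num)).2 (by omega))
  let S' : Sylow p X := Sylow.ofCard (S.subgroupOf X)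
    (hfac _ ((Nat.card_congr (Subgroup.subgroupOfEquivOfLe hSX).toEquiv).trans hS))
  let Q' : Sylow p X := Sylow.ofCard ((Q.map L.subtype).subgroupOf X) (hfac _ (by
    rw [Nat.card_congr (Subgroup.subgroupOfEquivOfLe ((Subgroup.map_subtype_le Q).trans hLX)).toEquiv,
      Subgroup.card_map_of_injective L.subtype_injective, hQ]))
  obtain ⟨x, hx⟩ := MulAction.exists_smul_eq X S' Q'
  refine ⟨x.1, x.2, fun s hs => ?_⟩
  have h1 : x * ⟨s, hSX hs⟩ * x⁻¹ ∈ (x • S' : Sylow p X).1 := by
    rw [Sylow.coe_subgroup_smul]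
    exact ⟨⟨s, hSX hs⟩, hs, rfl⟩
  rw [hx] at h1
  exact (Subgroup.map_subtype_le Q) h1

/-- **A subgroup of index 1365 fixes a point of the orbit of length 1365 or a line.** -/
theorem stab_of_index_M (L : Subgroup (Equiv.Perm V)) (hLX : L ≤ X) (hL : Nat.card L = 184320) :
    (∃ m, InM m ∧ ∀ g ∈ L, g m = m) ∨ ∃ x ∈ X, ∀ g ∈ L, img g (img x line0) = img x line0 := by
  haveI : Fact (Nat.Prime 2) := ⟨Nat.prime_two⟩
  obtain ⟨x, hx, hxS⟩ := conj_le L hLX (p := 2) (k := 12) SylTwo (fun g hg => hg.1.1) card_SylTwo (by norm_num)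
    (by rw [hL]; norm_num)
  let L' : Subgroup (Equiv.Perm V) := L.comap (MulAut.conj x).toMonoidHom
  have hL'X : L' ≤ X := fun g hg => by
    have hgx : x * g * x⁻¹ ∈ X := hLX hg
    have := mul_mem (mul_mem (inv_mem hx) hgx) hx
    simpa [mul_assoc] using this
  have hL'card : Nat.card L' = 184320 := by
    have e : L' = L.map ((MulAut.conj x).symm : Equiv.Perm V →* Equiv.Perm V) :=
      Subgroup.comap_equiv_eq_map_symm (MulAut.conj x) L
    rw [e, Subgroup.card_map_of_injective (MulAut.conj x).symm.injective, hL]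
  have hSL : SylTwo ≤ L' := fun s hs => hxS s hs
  let K : Subgroup (Equiv.Perm V) := L' ⊓ FlagStab
  have hcnt := fact_orbit_card L' (flag root) K inf_le_left fun g hg =>
    ⟨fun e => ⟨hg, hL'X hg, e⟩, fun e => e.2.2⟩
  have hK1 : 4096 ∣ Nat.card K := card_SylTwo ▸ Subgroup.card_dvd_of_le (le_inf hSL fun s hs => hs.1)
  have hK2 : Nat.card K ∣ 36864 := card_FlagStab ▸ Subgroup.card_dvd_of_le inf_le_right
  rw [hL'card] at hcnt
  set O := {f' | ∃ g ∈ L', fact g (flag root) = f'} with hO
  have hOcases : O.ncard = 5 ∨ O.ncard = 15 ∨ O.ncard = 45 := by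
    obtain ⟨d, hd⟩ := hK1
    rw [hd] at hK2 hcnt
    have hd9 : d ∣ 9 := Nat.dvd_of_mul_dvd_mul_left (by norm_num : 0 < 4096) (by simpa using hK2)
    have := Nat.le_of_dvd (by norm_num) hd9
    interval_cases d <;> omega
  have hroot : root < 6825 := by rw [root_eq.1]; norm_num
  have hsub : O ⊆ flag '' Set.Iio 6825 := by
    rw [← orbit_root]
    rintro f ⟨g, hg, e⟩
    exact ⟨g, hL'X hg, e⟩
  have hstab : ∀ j < 4, ∀ i < 6825, flag i ∈ O → sx j i < 6825 ∧ flag (sx j i) ∈ O := by
    intro j hj i hi hiO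
    have hwm : sWords.getD j [] ∈ sWords := by
      rw [List.getD_eq_getElem _ _ (by rw [misc.len]; exact hj)]; exact List.getElem_mem _
    obtain ⟨hk, e⟩ := step_spec (fun x hx => by have := (misc.words _ hwm).1 x hx; omega) hi
      ((rowOK hi).snext j hj)
    refine ⟨hk, ?_⟩
    obtain ⟨g, hg, eg⟩ := hiO
    exact ⟨wp (sWords.getD j []) * g, mul_mem (hSL (sWord_mem _ hwm)) hg, by rw [fact_mul, eg, e]⟩
  have hpath : ∀ w : List ℕ, (∀ a ∈ w, a < 4) → ∀ i < 6825, flag i ∈ O →
      spath w i < 6825 ∧ flag (spath w i) ∈ O := by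
    intro w
    induction w with
    | nil => intro _ i hi h; exact ⟨hi, h⟩
    | cons a w ih =>
      intro hw i hi h
      obtain ⟨h1, h2⟩ := ih (fun b hb => hw b (List.mem_cons_of_mem _ hb)) i hi h
      exact hstab a (hw a List.mem_cons_self) _ h1 h2
  have hrep : ∀ i < 6825, flag i ∈ O → flag (reps.getD (cls.get 8 i) 0) ∈ O := by
    intro i
    induction' hd : sdepth.get 8 i using Nat.strong_induction_on with d ih generalizing i
    intro hi h
    by_cases he : i = reps.getD (cls.get 8 i) 0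
    · rwa [← he]
    obtain ⟨h1, h2⟩ := (rowOK hi).down he
    obtain ⟨hk, hkO⟩ := hstab _ (rowOK hi).hlet i hi h
    have := ih _ (hd ▸ h1) _ rfl hk hkO
    rwa [h2] at this
  have hspread : ∀ c < 12, flag (reps.getD c 0) ∈ O → ∀ k ∈ members c, k < 6825 ∧ flag k ∈ O := by
    intro c hc h k hk
    have hs := allFrom_spec spread_ok c (Nat.zero_le _) (by omega)
    simp only [Bool.and_eq_true, List.all_eq_true] at hs
    obtain ⟨w, hw, rfl⟩ := List.mem_map.1 hk
    exact hpath w (fun a ha => Nat.le_of_ble_eq_true (hs.1.1.2 w hw a ha)) _ (Nat.le_of_ble_eq_true hs.1.2) h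
  have hmem : ∀ c < 12, (members c).Nodup ∧ (∀ k ∈ members c, cls.get 8 k = c) ∧
      (members c).length = [1, 4, 4, 16, 16].getD c 45 := by
    intro c hc
    have hs := allFrom_spec spread_ok c (Nat.zero_le _) (by omega)
    simp only [Bool.and_eq_true] at hs
    exact ⟨nodupB_spec hs.1.1.1.1, fun k hk => Nat.eq_of_beq_eq_true (allList_spec hs.1.1.1.2 k hk),
      Nat.eq_of_beq_eq_true hs.2⟩
  classical
  set I : Finset ℕ := (Finset.range 6825).filter fun i => flag i ∈ O with hI
  have hImem : ∀ i, i ∈ I ↔ i < 6825 ∧ flag i ∈ O := fun i => by simp [hI]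
  have hIO : O = flag '' (I : Set ℕ) := by
    refine Set.ext fun f => ⟨fun hf => ?_, ?_⟩
    · obtain ⟨i, hi, rfl⟩ := hsub hf
      exact ⟨i, (hImem i).2 ⟨hi, hf⟩, rfl⟩
    · rintro ⟨i, hi, rfl⟩
      exact ((hImem i).1 hi).2
  have hIcard : I.card = O.ncard := by
    rw [hIO, Set.InjOn.ncard_image (fun i hi k hk => flag_inj ((hImem i).1 hi).1 ((hImem k).1 hk).1),
      Set.ncard_coe_finset]
  have hfib : ∀ c < 12, ((I.filter fun k => cls.get 8 k = c).card = 0 ∨
      [1, 4, 4, 16, 16].getD c 45 ≤ (I.filter fun k => cls.get 8 k = c).card) ∧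
      (c < 5 → (I.filter fun k => cls.get 8 k = c).card ≤ [1, 4, 4, 16, 16].getD c 45) := by
    intro c hc
    obtain ⟨h1, h2, h3⟩ := hmem c hc
    refine ⟨?_, fun h5 => ?_⟩
    · rcases Finset.eq_empty_or_nonempty (I.filter fun k => cls.get 8 k = c) with h | ⟨k, hk⟩
      · exact Or.inl (by rw [h, Finset.card_empty])
      · right
        obtain ⟨hkI, hkc⟩ := Finset.mem_filter.1 hk
        obtain ⟨hk1, hk2⟩ := (hImem k).1 hkI
        have hrepO := hrep k hk1 hk2
        rw [hkc] at hrepO
        rw [← h3, ← List.toFinset_card_of_nodup h1]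
        exact Finset.card_le_card fun q hq => Finset.mem_filter.2
          ⟨(hImem q).2 (hspread c hc hrepO q (List.mem_toFinset.1 hq)), h2 q (List.mem_toFinset.1 hq)⟩
    · rw [← h3]
      refine le_trans (Finset.card_le_card (t := (members c).toFinset) fun q hq => ?_) (List.toFinset_card_le _)
      obtain ⟨hqI, hqc⟩ := Finset.mem_filter.1 hq
      have := allFrom_spec small_listed q (Nat.zero_le _) (by have := ((hImem q).1 hqI).1; omega)
      rw [hqc, show Nat.blt c 5 = true from Nat.ble_eq_true_of_le h5] at this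
      simp at this
      exact List.mem_toFinset.2 (memNat_spec this)
  have hsum : I.card = ∑ c ∈ Finset.range 12, (I.filter fun k => cls.get 8 k = c).card :=
    Finset.card_eq_sum_card_fiberwise fun k hk => Finset.mem_range.2 (rowOK ((hImem k).1 hk).1).hcls
  have hrootI : root ∈ I := (hImem root).2 ⟨hroot, ⟨1, one_mem _, fact_one _⟩⟩
  have hroot0 : cls.get 8 root = 0 := by decide +kernel
  have hbig : ∀ i ∈ I, cls.get 8 i = 0 ∨ cls.get 8 i = 1 ∨ cls.get 8 i = 2 := by
    intro i hi
    by_contra hne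
    push Not at hne
    have hlt := (rowOK ((hImem i).1 hi).1).hcls
    have hpos : (I.filter fun k => cls.get 8 k = cls.get 8 i).card ≠ 0 :=
      Finset.card_ne_zero.2 ⟨i, Finset.mem_filter.2 ⟨hi, rfl⟩⟩
    have hge := ((hfib _ hlt).1.resolve_left hpos)
    have hpos0 : (I.filter fun k => cls.get 8 k = 0).card ≠ 0 :=
      Finset.card_ne_zero.2 ⟨root, Finset.mem_filter.2 ⟨hrootI, hroot0⟩⟩
    have b0 := hfib 0 (by norm_num)
    have b1 := hfib 1 (by norm_num)
    have b2 := hfib 2 (by norm_num)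
    have b3 := hfib 3 (by norm_num)
    have b4 := hfib 4 (by norm_num)
    simp only [List.getD_cons_zero, List.getD_cons_succ, forall_const, Nat.reduceLT] at b0 b1 b2 b3 b4
    simp only [Finset.sum_range_succ, Finset.sum_range_zero] at hsum
    have hz : ∀ d, 5 ≤ d → d < 12 → (I.filter fun k => cls.get 8 k = d).card = 0 := by
      intro d h5 h12
      have bd := (hfib d h12).1
      interval_cases d <;> simp only [List.getD_cons_zero, List.getD_cons_succ, List.getD_nil] at bd <;> omega
    simp only [hz 5 (by norm_num) (by norm_num), hz 6 (by norm_num) (by norm_num), hz 7 (by norm_num) (by norm_num),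
      hz 8 (by norm_num) (by norm_num), hz 9 (by norm_num) (by norm_num), hz 10 (by norm_num) (by norm_num),
      hz 11 (by norm_num) (by norm_num)] at hsum
    obtain ⟨hne0, hne1, hne2⟩ := hne
    rcases Nat.lt_or_ge (cls.get 8 i) 5 with h5 | h5
    · generalize cls.get 8 i = c at hlt hpos hge hne0 hne1 hne2 h5
      interval_cases c <;> simp only [List.getD_cons_zero, List.getD_cons_succ] at hge <;> omega
    · exact hpos (hz _ h5 hlt)
  have hmix : (∀ i ∈ I, cls.get 8 i = 0 ∨ cls.get 8 i = 1) ∨ ∀ i ∈ I, cls.get 8 i = 0 ∨ cls.get 8 i = 2 := by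
    by_contra hne
    push Not at hne
    obtain ⟨⟨i, hi, hi0, hi1⟩, ⟨k, hk, hk0, hk2⟩⟩ := hne
    have h2 : (I.filter fun q => cls.get 8 q = 2).card ≠ 0 := Finset.card_ne_zero.2
      ⟨i, Finset.mem_filter.2 ⟨hi, by rcases hbig i hi with e | e | e <;> [exact absurd e hi0; exact absurd e hi1; exact e]⟩⟩
    have h1 : (I.filter fun q => cls.get 8 q = 1).card ≠ 0 := Finset.card_ne_zero.2
      ⟨k, Finset.mem_filter.2 ⟨hk, by rcases hbig k hk with e | e | e <;> [exact absurd e hk0; exact e; exact absurd e hk2]⟩⟩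
    have b0 := hfib 0 (by norm_num)
    have b1 := hfib 1 (by norm_num)
    have b2 := hfib 2 (by norm_num)
    simp only [List.getD_cons_zero, List.getD_cons_succ, forall_const, Nat.reduceLT] at b0 b1 b2
    have hrest : ∀ c, 3 ≤ c → (I.filter fun q => cls.get 8 q = c).card = 0 := fun c hc =>
      Finset.card_eq_zero.2 (Finset.filter_eq_empty_iff.2 fun q hq e => by rcases hbig q hq with h | h | h <;> omega)
    have hpos0 : (I.filter fun k => cls.get 8 k = 0).card ≠ 0 :=
      Finset.card_ne_zero.2 ⟨root, Finset.mem_filter.2 ⟨hrootI, hroot0⟩⟩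
    simp only [Finset.sum_range_succ, Finset.sum_range_zero, hrest _ (le_refl 3), hrest 4 (by norm_num),
      hrest 5 (by norm_num), hrest 6 (by norm_num), hrest 7 (by norm_num), hrest 8 (by norm_num),
      hrest 9 (by norm_num), hrest 10 (by norm_num), hrest 11 (by norm_num)] at hsum
    omega
  have hlist : ∀ i ∈ I, ∀ c < 5, cls.get 8 i = c → i ∈ members c := by
    intro i hi c h5 hc
    have := allFrom_spec small_listed i (Nat.zero_le _) (by have := ((hImem i).1 hi).1; omega)
    rw [hc, show Nat.blt c 5 = true from Nat.ble_eq_true_of_le h5] at this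
    simp at this
    exact memNat_spec this
  have hsmall : ((members 0).all (fun q => Nat.beq (point q) 1 && Nat.beq (q / 5) 0) &&
      (members 1).all (fun q => Nat.beq (point q) 1) && (members 2).all (fun q => Nat.beq (q / 5) 0)) = true := by
    decide +kernel
  simp only [Bool.and_eq_true, List.all_eq_true] at hsmall
  have hback : ∀ g ∈ L, x⁻¹ * g * x ∈ L' := fun g hg => by
    show x * (x⁻¹ * g * x) * x⁻¹ ∈ L
    simpa [mul_assoc] using hg
  have hflag : ∀ g ∈ L, ∃ i ∈ I, fact (x⁻¹ * g * x) (m0, line0) = (pt (point i), lineSet (i / 5)) := by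
    intro g hg
    have hm : fact (x⁻¹ * g * x) (flag root) ∈ O := ⟨_, hback g hg, rfl⟩
    rw [hIO] at hm
    obtain ⟨i, hi, he⟩ := hm
    rw [flag_root] at he
    exact ⟨i, hi, he.symm⟩
  rcases hmix with h | h
  · refine Or.inl ⟨x m0, (inM_map hx m0).2 ((inM_iff m0).2 ⟨1, one_mem _, rfl⟩), fun g hg => ?_⟩
    obtain ⟨i, hi, he⟩ := hflag g hg
    have h1 : point i = 1 := by
      rcases h i hi with e | e
      · exact Nat.eq_of_beq_eq_true (hsmall.1.1 i (hlist i hi 0 (by norm_num) e)).1
      · exact Nat.eq_of_beq_eq_true (hsmall.1.2 i (hlist i hi 1 (by norm_num) e))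
    have hf : (x⁻¹ * g * x) m0 = m0 := (congrArg Prod.fst he).trans (congrArg pt h1)
    simp only [Equiv.Perm.mul_apply] at hf
    exact Equiv.Perm.inv_eq_iff_eq.1 hf
  · refine Or.inr ⟨x, hx, fun g hg => ?_⟩
    obtain ⟨i, hi, he⟩ := hflag g hg
    have h1 : i / 5 = 0 := by
      rcases h i hi with e | e
      · exact Nat.eq_of_beq_eq_true (hsmall.1.1 i (hlist i hi 0 (by norm_num) e)).2
      · exact Nat.eq_of_beq_eq_true (hsmall.2 i (hlist i hi 2 (by norm_num) e))
    have hf : img (x⁻¹ * g * x) line0 = line0 := (congrArg Prod.snd he).trans (congrArg lineSet h1)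
    rw [img_mul, img_mul] at hf
    have := congrArg (img x) hf
    rwa [← img_mul, mul_inv_cancel, img_one] at this

end CfsgLib.Spor.SuzThree
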