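import Cfsg.Agent.Lib.Spor.SuzThree.SylDefs

/-!
# The checks of the Sylow 5-subgroups, part 2
-/

set_option autoImplicit false
set_option maxRecDepth 100000
set_option Elab.async false

namespace CfsgLib.Spor.SuzThree.SylData

open CfsgLib.Spor.TC

theorem rows8 : allFrom rowB 1344 168 = true := by decide +kernel
theorem rows9 : allFrom rowB 1512 168 = true := by decide +kernel
theorem rows10 : allFrom rowB 1680 168 = true := by decide +kernel
theorem rows11 : allFrom rowB 1848 168 = true := by decide +kernel

end CfsgLib.Spor.SuzThree.SylData
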