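import Cfsg.Agent.Lib.Spor.SuzThree.SylDefs

/-!
# The checks of the Sylow 5-subgroups, part 3
-/

set_option autoImplicit false
set_option maxRecDepth 100000
set_option Elab.async false

namespace CfsgLib.Spor.SuzThree.SylData

open CfsgLib.Spor.TC

theorem tree0 : allFrom (treeB 0) 0 1782 = true := by decide +kernel
theorem tree1 : allFrom (treeB 1) 0 1782 = true := by decide +kernel
theorem tree2 : allFrom (treeB 2) 0 1782 = true := by decide +kernel
theorem tree3 : allFrom (treeB 3) 0 1782 = true := by decide +kernel
theorem tree4 : allFrom (treeB 4) 0 1782 = true := by decide +kernel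
theorem tree5 : allFrom (treeB 5) 0 1782 = true := by decide +kernel
theorem tree6 : allFrom (treeB 6) 0 1782 = true := by decide +kernel

end CfsgLib.Spor.SuzThree.SylData
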