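import Cfsg.Agent.Lib.Spor.SuzThree.SylDefs

/-!
# The checks of the Sylow 5-subgroups, part 6
-/

set_option autoImplicit false
set_option maxRecDepth 100000
set_option Elab.async false

namespace CfsgLib.Spor.SuzThree.SylData

open CfsgLib.Spor.TC

theorem sets_ok : allFrom setB 0 2016 = true := by decide +kernel

theorem heads_ok : allFrom caseB 0 21 = true := by decide +kernel

theorem nTree_ok : allFrom nTree.rowB 0 300 = true := by decide +kernel

theorem misc_ok : miscB = true := by decide +kernel

theorem classes_ok : classesB = true := by decide +kernel

end CfsgLib.Spor.SuzThree.SylData
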