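import Cfsg.Agent.Lib.Spor.SuzThree.SylDefs

/-!
# The checks of the Sylow 5-subgroups, part 7
-/

set_option autoImplicit false
set_option maxRecDepth 100000
set_option Elab.async false

namespace CfsgLib.Spor.SuzThree.SylData

open CfsgLib.Spor.TC

theorem rels0 : allFrom relsB 0 99 = true := by decide +kernel
theorem rels1 : allFrom relsB 99 99 = true := by decide +kernel
theorem rels2 : allFrom relsB 198 99 = true := by decide +kernel
theorem rels3 : allFrom relsB 297 99 = true := by decide +kernel
theorem rels4 : allFrom relsB 396 99 = true := by decide +kernel
theorem rels5 : allFrom relsB 495 99 = true := by decide +kernel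

end CfsgLib.Spor.SuzThree.SylData
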