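import Cfsg.Agent.Lib.Spor.SuzThree.SylDefs

/-!
# The checks of the Sylow 5-subgroups, part 9
-/

set_option autoImplicit false
set_option maxRecDepth 100000
set_option Elab.async false

namespace CfsgLib.Spor.SuzThree.SylData

open CfsgLib.Spor.TC

theorem rels12 : allFrom relsB 1188 99 = true := by decide +kernel
theorem rels13 : allFrom relsB 1287 99 = true := by decide +kernel
theorem rels14 : allFrom relsB 1386 99 = true := by decide +kernel
theorem rels15 : allFrom relsB 1485 99 = true := by decide +kernel
theorem rels16 : allFrom relsB 1584 99 = true := by decide +kernel
theorem rels17 : allFrom relsB 1683 99 = true := by decide +kernel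

end CfsgLib.Spor.SuzThree.SylData
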