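import Cfsg.Agent.Lib.Spor.SuzThree.StabM
import Cfsg.Agent.Lib.Spor.SuzThree.Graph
import Cfsg.Agent.Lib.Spor.SuzThree.SylCheck0
import Cfsg.Agent.Lib.Spor.SuzThree.SylCheck1
import Cfsg.Agent.Lib.Spor.SuzThree.SylCheck2
import Cfsg.Agent.Lib.Spor.SuzThree.SylCheck3
import Cfsg.Agent.Lib.Spor.SuzThree.SylCheck4
import Cfsg.Agent.Lib.Spor.SuzThree.SylCheck5
import Cfsg.Agent.Lib.Spor.SuzThree.SylCheck6
import Cfsg.Agent.Lib.Spor.SuzThree.SylCheck7
import Cfsg.Agent.Lib.Spor.SuzThree.SylCheck8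
import Cfsg.Agent.Lib.Spor.SuzThree.SylCheck9
import Mathlib.GroupTheory.PGroup

/-!
# Subgroups of index 416 of the point stabiliser fix a point
-/

set_option autoImplicit false
set_option maxRecDepth 100000

namespace CfsgLib.Spor.SuzThree

open CfsgLib.Spor.TC
open CfsgLib.Spor.SuzThree.FlagData (memNat_complete nodupB nodupB_spec intoB)

theorem wp_eq_of_check {u v : List ℕ} (hu : ∀ x ∈ u, x < 10) (hv : ∀ x ∈ v, x < 10)
    (h : ∀ c < 1782, wv u c = wv v c) : wp u = wp v :=
  Equiv.ext fun c => Fin.ext (by rw [wp_apply hu, wp_apply hv, h c.1 c.2])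

theorem wp_pow (w : List ℕ) : ∀ n : ℕ, wp w ^ n = wp (List.replicate n w).flatten
  | 0 => by simp [wp_nil]
  | n + 1 => by rw [pow_succ', wp_pow w n, List.replicate_succ, List.flatten_cons, wp_append]

theorem pow_apply_wpow {w : List ℕ} (hw : ∀ x ∈ w, x < 10) (c : V) :
    ∀ n : ℕ, ((wp w ^ n) c : ℕ) = pwv w n c
  | 0 => by rw [pow_zero]; rfl
  | n + 1 => by
    rw [pow_succ', Equiv.Perm.mul_apply, wp_apply hw, pow_apply_wpow hw c n]
    rfl

theorem lp_sq {x : ℕ} (hx : x < 6) : lp x * lp x = 1 := by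
  have h := Suz.Act0.valid.sat.sq x
  have e : lp x = Suz.Act0.valid.invPerm x :=
    Suz.Act0.valid.perm_of_lt (A := Suz.Act0.act) (show x < Suz.Act0.act.k from lt_trans hx (by decide))
  rw [e]; exact h

theorem wp_reverse : ∀ {w : List ℕ}, (∀ x ∈ w, x < 6) → wp w.reverse = (wp w)⁻¹ := by
  intro w
  induction w with
  | nil => intro _; simp [wp_nil]
  | cons a w ih =>
    intro h
    rw [List.reverse_cons, wp_append, ih fun x hx => h x (List.mem_cons_of_mem _ hx),
      show a :: w = [a] ++ w from rfl, wp_append, mul_inv_rev]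
    congr 1
    have : wp [a] = lp a := by simp [wp, ev]
    rw [this]
    exact eq_inv_of_mul_eq_one_left (lp_sq (h a List.mem_cons_self))

theorem six_small {w : List ℕ} (hw : ∀ x ∈ w, x < 6) : ∀ x ∈ w, x < 10 := fun x hx =>
  lt_trans (hw x hx) (by norm_num)

theorem six_mem_X {w : List ℕ} (hw : ∀ x ∈ w, x < 6) : wp w ∈ X :=
  wp_mem_X fun x hx => (FlagData.hLet_getD x (hw x hx)).2

/-- The stabiliser of the two base points. -/
noncomputable def JN : Subgroup (Equiv.Perm V) where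
  carrier := {g | g ∈ X ∧ g n0 = n0}
  one_mem' := ⟨one_mem _, rfl⟩
  mul_mem' := fun ha hb => ⟨mul_mem ha.1 hb.1, by rw [Equiv.Perm.mul_apply, hb.2, ha.2]⟩
  inv_mem' := fun ha => ⟨inv_mem ha.1, Equiv.Perm.inv_eq_iff_eq.2 ha.2.symm⟩

theorem point_orbit_card (L : Subgroup (Equiv.Perm V)) (v : V) (K : Subgroup (Equiv.Perm V)) (hK : K ≤ L)
    (hKv : ∀ g, g ∈ L → (g v = v ↔ g ∈ K)) :
    {c | ∃ g ∈ L, g v = c}.ncard * Nat.card K = Nat.card L := by
  have ho : {c | ∃ g ∈ L, g v = c} = MulAction.orbit L v :=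
    Set.ext fun c => ⟨fun ⟨g, hg, e⟩ => ⟨⟨g, hg⟩, e⟩, fun ⟨g, e⟩ => ⟨g.1, g.2, e⟩⟩
  have hs : MulAction.stabilizer L v = K.subgroupOf L := Subgroup.ext fun g => hKv g.1 g.2
  have h3 : Nat.card (K.subgroupOf L) = Nat.card K := Nat.card_congr (Subgroup.subgroupOfEquivOfLe hK).toEquiv
  have h4 : Nat.card (MulAction.orbit L v) * Nat.card (MulAction.stabilizer L v) = Nat.card L := by
    rw [← Nat.card_prod]
    exact Nat.card_congr (MulAction.orbitProdStabilizerEquivGroup L v)
  rw [ho, ← Nat.card_coe_set_eq, ← h3, ← hs]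
  exact h4

theorem img_orbit_card (L : Subgroup (Equiv.Perm V)) (s : Finset V) (K : Subgroup (Equiv.Perm V)) (hK : K ≤ L)
    (hKs : ∀ g, g ∈ L → (img g s = s ↔ g ∈ K)) :
    {t | ∃ g ∈ L, img g s = t}.ncard * Nat.card K = Nat.card L := by
  let A : MulAction L (Finset V) :=
    { smul := fun g t => img g.1 t
      one_smul := img_one
      mul_smul := fun g h t => img_mul g.1 h.1 t }
  letI := A
  have ho : {t | ∃ g ∈ L, img g s = t} = MulAction.orbit L s :=
    Set.ext fun t => ⟨fun ⟨g, hg, e⟩ => ⟨⟨g, hg⟩, e⟩, fun ⟨g, e⟩ => ⟨g.1, g.2, e⟩⟩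
  have hs : MulAction.stabilizer L s = K.subgroupOf L := Subgroup.ext fun g => hKs g.1 g.2
  have h3 : Nat.card (K.subgroupOf L) = Nat.card K := Nat.card_congr (Subgroup.subgroupOfEquivOfLe hK).toEquiv
  have h4 : Nat.card (MulAction.orbit L s) * Nat.card (MulAction.stabilizer L s) = Nat.card L := by
    rw [← Nat.card_prod]
    exact Nat.card_congr (MulAction.orbitProdStabilizerEquivGroup L s)
  rw [ho, ← Nat.card_coe_set_eq, ← h3, ← hs]
  exact h4

theorem n0_InN : InN n0 := (inN_iff n0).2 ⟨1, one_mem _, rfl⟩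

theorem card_JN : Nat.card JN = 604800 := by
  have h := point_orbit_card X n0 JN (fun g hg => hg.1) fun g hg => ⟨fun e => ⟨hg, e⟩, fun e => e.2⟩
  have e : {c | ∃ g ∈ X, g n0 = c}.ncard = 416 := (congrArg Set.ncard (Set.ext fun c => (inN_iff c).symm)).trans ncard_N
  rw [e, card_X] at h
  omega

namespace SylData

theorem row (i : ℕ) (hi : i < 2016) : rowB i = true := by
  rcases Nat.lt_or_ge i 168 with h | h
  · exact allFrom_spec rows0 i (by omega) (by omega)
  rcases Nat.lt_or_ge i 336 with h | h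
  · exact allFrom_spec rows1 i (by omega) (by omega)
  rcases Nat.lt_or_ge i 504 with h | h
  · exact allFrom_spec rows2 i (by omega) (by omega)
  rcases Nat.lt_or_ge i 672 with h | h
  · exact allFrom_spec rows3 i (by omega) (by omega)
  rcases Nat.lt_or_ge i 840 with h | h
  · exact allFrom_spec rows4 i (by omega) (by omega)
  rcases Nat.lt_or_ge i 1008 with h | h
  · exact allFrom_spec rows5 i (by omega) (by omega)
  rcases Nat.lt_or_ge i 1176 with h | h
  · exact allFrom_spec rows6 i (by omega) (by omega)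
  rcases Nat.lt_or_ge i 1344 with h | h
  · exact allFrom_spec rows7 i (by omega) (by omega)
  rcases Nat.lt_or_ge i 1512 with h | h
  · exact allFrom_spec rows8 i (by omega) (by omega)
  rcases Nat.lt_or_ge i 1680 with h | h
  · exact allFrom_spec rows9 i (by omega) (by omega)
  rcases Nat.lt_or_ge i 1848 with h | h
  · exact allFrom_spec rows10 i (by omega) (by omega)
  exact allFrom_spec rows11 i h (by omega)

theorem rels (c : ℕ) (hc : c < 1782) : relsB c = true := by
  rcases Nat.lt_or_ge c 99 with h | h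
  · exact allFrom_spec rels0 c (by omega) (by omega)
  rcases Nat.lt_or_ge c 198 with h | h
  · exact allFrom_spec rels1 c (by omega) (by omega)
  rcases Nat.lt_or_ge c 297 with h | h
  · exact allFrom_spec rels2 c (by omega) (by omega)
  rcases Nat.lt_or_ge c 396 with h | h
  · exact allFrom_spec rels3 c (by omega) (by omega)
  rcases Nat.lt_or_ge c 495 with h | h
  · exact allFrom_spec rels4 c (by omega) (by omega)
  rcases Nat.lt_or_ge c 594 with h | h
  · exact allFrom_spec rels5 c (by omega) (by omega)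
  rcases Nat.lt_or_ge c 693 with h | h
  · exact allFrom_spec rels6 c (by omega) (by omega)
  rcases Nat.lt_or_ge c 792 with h | h
  · exact allFrom_spec rels7 c (by omega) (by omega)
  rcases Nat.lt_or_ge c 891 with h | h
  · exact allFrom_spec rels8 c (by omega) (by omega)
  rcases Nat.lt_or_ge c 990 with h | h
  · exact allFrom_spec rels9 c (by omega) (by omega)
  rcases Nat.lt_or_ge c 1089 with h | h
  · exact allFrom_spec rels10 c (by omega) (by omega)
  rcases Nat.lt_or_ge c 1188 with h | h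
  · exact allFrom_spec rels11 c (by omega) (by omega)
  rcases Nat.lt_or_ge c 1287 with h | h
  · exact allFrom_spec rels12 c (by omega) (by omega)
  rcases Nat.lt_or_ge c 1386 with h | h
  · exact allFrom_spec rels13 c (by omega) (by omega)
  rcases Nat.lt_or_ge c 1485 with h | h
  · exact allFrom_spec rels14 c (by omega) (by omega)
  rcases Nat.lt_or_ge c 1584 with h | h
  · exact allFrom_spec rels15 c (by omega) (by omega)
  rcases Nat.lt_or_ge c 1683 with h | h
  · exact allFrom_spec rels16 c (by omega) (by omega)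
  exact allFrom_spec rels17 c h (by omega)

theorem tree (r : ℕ) (hr : r < 21) : allFrom (treeB r) 0 1782 = true := by
  interval_cases r
  exacts [tree0, tree1, tree2, tree3, tree4, tree5, tree6, tree7, tree8, tree9, tree10, tree11, tree12, tree13, tree14, tree15, tree16, tree17, tree18, tree19, tree20]

attribute [local irreducible] code

theorem sortedB_spec : ∀ {l : List ℕ}, sortedB l = true → l.Pairwise (· < ·) := by
  intro l
  induction l with
  | nil => intro _; exact List.Pairwise.nil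
  | cons a t ih =>
    intro h
    change (allList (fun b => Nat.blt a b) t && sortedB t) = true at h
    simp only [Bool.and_eq_true] at h
    exact List.pairwise_cons.2 ⟨fun b hb => Nat.le_of_ble_eq_true (allList_spec h.1 b hb), ih h.2⟩

/-- The set with an index. -/
noncomputable def set' (i : ℕ) : Finset V := ((sl i).map pt).toFinset

theorem setOK {i : ℕ} (hi : i < 2016) : (sl i).Pairwise (· < ·) ∧ (∀ q ∈ sl i, q < 1782) ∧
    (i ≠ 0 → code (i - 1) < code i) := by
  have h := allFrom_spec sets_ok i (Nat.zero_le _) (by omega)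
  simp only [setB, Bool.and_eq_true, Bool.or_eq_true] at h
  refine ⟨sortedB_spec h.1.1, fun q hq => Nat.le_of_ble_eq_true (allList_spec h.1.2 q hq), fun hne => ?_⟩
  rcases h.2 with e | e
  · exact absurd (Nat.eq_of_beq_eq_true e) hne
  · exact Nat.le_of_ble_eq_true e

theorem set'_inj {i k : ℕ} (hi : i < 2016) (hk : k < 2016) (h : set' i = set' k) : i = k := by
  obtain ⟨si, li, -⟩ := setOK hi
  obtain ⟨sk, lk, -⟩ := setOK hk
  have hv : ∀ j, (∀ q ∈ sl j, q < 1782) → (set' j).image Fin.val = (sl j).toFinset := by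
    intro j hj
    ext q
    simp only [set', Finset.mem_image, List.mem_toFinset, List.mem_map]
    constructor
    · rintro ⟨v, ⟨a, ha, rfl⟩, rfl⟩
      rwa [pt_val (hj a ha)]
    · exact fun hq => ⟨pt q, ⟨q, hq, rfl⟩, pt_val (hj q hq)⟩
  have hl : sl i = sl k :=
    (List.perm_of_nodup_nodup_toFinset_eq (si.imp fun h => h.ne) (sk.imp fun h => h.ne)
      (by rw [← hv i li, ← hv k lk, h])).eq_of_pairwise (fun a b _ _ h1 h2 => absurd h2 h1.asymm) si sk
  have hc : code i = code k := by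
    simp only [sl, List.cons.injEq] at hl
    obtain ⟨e0, e1, e2, e3, e4, e5, -⟩ := hl
    unfold code
    rw [e0, e1, e2, e3, e4, e5]
  have strict : ∀ k < 2016, ∀ i < k, code i < code k := by
    intro k
    induction k with
    | zero => intro _ i hi; omega
    | succ k ih =>
      intro hk i hi
      have := (setOK hk).2.2 (Nat.succ_ne_zero _)
      rw [Nat.succ_sub_one] at this
      rcases Nat.lt_succ_iff_lt_or_eq.1 hi with h' | rfl
      · exact (ih (Nat.lt_of_succ_lt hk) i h').trans this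
      · exact this
  rcases lt_trichotomy i k with hlt | heq | hlt
  · exact absurd hc (strict k hk i hlt).ne
  · exact heq
  · exact absurd hc (strict i hi k hlt).ne'

theorem sstep_spec {w : List ℕ} (hw : ∀ x ∈ w, x < 10) {i k : ℕ} (hi : i < 2016) (hk : k < 2016)
    (h : sstepB w i k = true) : img (wp w) (set' i) = set' k :=
  img_eq_of_into hw (setOK hi).2.1 ((setOK hi).1.imp fun h => h.ne) (by simp [sl]) h

end SylData

open SylData

/-- The first generator of the subgroup of order 25. -/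
noncomputable def gA : Equiv.Perm V := wp wa

/-- The second generator of the subgroup of order 25. -/
noncomputable def gB : Equiv.Perm V := wp wb

/-- The words used fix the base point and have small letters. -/
structure SMisc : Prop where
  words : ∀ w ∈ wa :: wb :: jWords ++ stabGens.map Prod.fst, (∀ a ∈ w, a < 6) ∧ wv w 47 = 47
  stabs : ∀ t ∈ stabGens, sstepB t.1 root root = true
  slen : stabGens.length = 2
  jlen : jWords.length = 2
  root_lt : SylData.root < 2016
  root_cls : cls.get 8 SylData.root = 0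
  pairRoot_lt : SylData.pairRoot < 300
  five_nodup : ((List.range 25).map fun t =>
    Nat.add (Nat.mul (wv (five (t / 5) (t % 5)) pairFive.1) 4096) (wv (five (t / 5) (t % 5)) pairFive.2)).Nodup
  p1 : pairFive.1 < 1782
  p2 : pairFive.2 < 1782

theorem smisc : SMisc := by
  have h := SylData.misc_ok
  simp only [SylData.miscB, Bool.and_eq_true, List.all_eq_true] at h
  obtain ⟨⟨⟨⟨⟨⟨⟨⟨⟨hw, hs⟩, h2⟩, h2'⟩, hr⟩, hc⟩, hp⟩, hn⟩, h1⟩, h1'⟩ := h
  exact ⟨fun w hm => ⟨fun a ha => Nat.le_of_ble_eq_true ((hw w hm).1 a ha), Nat.eq_of_beq_eq_true (hw w hm).2⟩, hs,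
    Nat.eq_of_beq_eq_true h2, Nat.eq_of_beq_eq_true h2', Nat.le_of_ble_eq_true hr, Nat.eq_of_beq_eq_true hc,
    Nat.le_of_ble_eq_true hp, nodupB_spec hn, Nat.le_of_ble_eq_true h1, Nat.le_of_ble_eq_true h1'⟩

theorem word_JN {w : List ℕ} (hw : ∀ a ∈ w, a < 6) (h : wv w 47 = 47) : wp w ∈ JN :=
  ⟨six_mem_X hw, by rw [n0, (wp_pt (six_small hw) (by norm_num)).1, h]⟩

theorem wa_ok : (∀ a ∈ wa, a < 6) ∧ wv wa 47 = 47 := smisc.words wa (by simp)

theorem wb_ok : (∀ a ∈ wb, a < 6) ∧ wv wb 47 = 47 := smisc.words wb (by simp)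

theorem stab_ok {t : List ℕ × (ℕ × ℕ) × ℕ × ℕ} (ht : t ∈ stabGens) : (∀ a ∈ t.1, a < 6) ∧ wv t.1 47 = 47 :=
  smisc.words t.1 (by simp only [List.mem_append]; exact Or.inr (List.mem_map.2 ⟨t, ht, rfl⟩))

theorem la' : ∀ x ∈ wa, x < 10 := six_small wa_ok.1

theorem lb' : ∀ x ∈ wb, x < 10 := six_small wb_ok.1

theorem relAt (c : ℕ) (hc : c < 1782) :
    pwv wa 5 c = c ∧ pwv wb 5 c = c ∧ wv (wa ++ wb) c = wv (wb ++ wa) c ∧
    (∀ t ∈ stabGens, wv (t.1 ++ wa) c = wv (five t.2.1.1 t.2.1.2 ++ t.1) c ∧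
      wv (t.1 ++ wb) c = wv (five t.2.2.1 t.2.2.2 ++ t.1) c) ∧
    (InN (pt c) → c = 47 ∨ wv wa c ≠ c ∨ wv wb c ≠ c) := by
  have h := rels c hc
  simp only [relsB, Bool.and_eq_true, Bool.or_eq_true, Bool.not_eq_true', List.all_eq_true] at h
  obtain ⟨⟨⟨⟨ha, hb⟩, hab⟩, hs⟩, hf⟩ := h
  refine ⟨Nat.eq_of_beq_eq_true ha, Nat.eq_of_beq_eq_true hb, Nat.eq_of_beq_eq_true hab,
    fun t ht => ⟨Nat.eq_of_beq_eq_true (hs t ht).1, Nat.eq_of_beq_eq_true (hs t ht).2⟩, fun hN => ?_⟩
  rw [InN, pt_val hc] at hN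
  rcases hf with ((e | e) | e) | e
  · rw [hN] at e; cases e
  · exact Or.inl (Nat.eq_of_beq_eq_true e)
  · exact Or.inr (Or.inl fun e' => by rw [e', Nat.beq_refl] at e; cases e)
  · exact Or.inr (Or.inr fun e' => by rw [e', Nat.beq_refl] at e; cases e)

theorem pow_one_of_check {w : List ℕ} (hw : ∀ x ∈ w, x < 10) {n : ℕ} (h : ∀ c < 1782, pwv w n c = c) :
    wp w ^ n = 1 :=
  Equiv.ext fun c => Fin.ext (by rw [pow_apply_wpow hw, h c.1 c.2, Equiv.Perm.one_apply])

theorem gA_pow : gA ^ 5 = 1 := pow_one_of_check la' fun c hc => (relAt c hc).1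

theorem gB_pow : gB ^ 5 = 1 := pow_one_of_check lb' fun c hc => (relAt c hc).2.1

theorem gAB_comm : Commute gA gB := by
  show wp wa * wp wb = wp wb * wp wa
  rw [← wp_append, ← wp_append]
  refine wp_eq_of_check (fun x hx => ?_) (fun x hx => ?_) fun c hc => (relAt c hc).2.2.1
  · rcases List.mem_append.1 hx with h | h <;> [exact la' x h; exact lb' x h]
  · rcases List.mem_append.1 hx with h | h <;> [exact lb' x h; exact la' x h]

theorem five_lt {i j : ℕ} : ∀ x ∈ five i j, x < 10 := by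
  intro x hx
  simp only [five, List.mem_append, List.mem_flatten] at hx
  rcases hx with ⟨l, hl, hx⟩ | ⟨l, hl, hx⟩
  · exact la' x ((List.eq_of_mem_replicate hl) ▸ hx)
  · exact lb' x ((List.eq_of_mem_replicate hl) ▸ hx)

theorem wp_five (i j : ℕ) : wp (five i j) = gA ^ i * gB ^ j := by
  rw [five, wp_append, gA, gB, wp_pow, wp_pow]

/-- The subgroup of order 25. -/
noncomputable def SylFive : Subgroup (Equiv.Perm V) := Subgroup.closure {gA, gB}

theorem mem_SylFive {g : Equiv.Perm V} (hg : g ∈ SylFive) : ∃ i < 5, ∃ j < 5, g = gA ^ i * gB ^ j := by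
  induction hg using Subgroup.closure_induction with
  | mem x hx =>
    rcases hx with rfl | rfl
    · exact ⟨1, by norm_num, 0, by norm_num, by simp⟩
    · exact ⟨0, by norm_num, 1, by norm_num, by simp⟩
  | one => exact ⟨0, by norm_num, 0, by norm_num, by simp⟩
  | mul x y _ _ ihx ihy =>
    obtain ⟨i, -, j, -, rfl⟩ := ihx
    obtain ⟨k, -, l, -, rfl⟩ := ihy
    refine ⟨(i + k) % 5, Nat.mod_lt _ (by norm_num), (j + l) % 5, Nat.mod_lt _ (by norm_num), ?_⟩
    rw [← pow_eq_pow_mod (i + k) gA_pow, ← pow_eq_pow_mod (j + l) gB_pow, pow_add, pow_add]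
    exact Commute.mul_mul_mul_comm ((gAB_comm.symm.pow_pow j k)) _ _
  | inv x _ ih =>
    obtain ⟨i, hi, j, hj, rfl⟩ := ih
    refine ⟨(5 - i) % 5, Nat.mod_lt _ (by norm_num), (5 - j) % 5, Nat.mod_lt _ (by norm_num), ?_⟩
    rw [← pow_eq_pow_mod (5 - i) gA_pow, ← pow_eq_pow_mod (5 - j) gB_pow]
    symm
    rw [eq_inv_iff_mul_eq_one, Commute.mul_mul_mul_comm ((gAB_comm.symm.pow_pow (5 - j) i)), ← pow_add, ← pow_add,
      Nat.sub_add_cancel hi.le, Nat.sub_add_cancel hj.le, gA_pow, gB_pow, one_mul]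

theorem SylFive_le : SylFive ≤ JN := (Subgroup.closure_le _).2 (by
  rintro x (rfl | rfl)
  exacts [word_JN wa_ok.1 wa_ok.2, word_JN wb_ok.1 wb_ok.2])

theorem gA_SylFive : gA ∈ SylFive := Subgroup.subset_closure (Or.inl rfl)

theorem gB_SylFive : gB ∈ SylFive := Subgroup.subset_closure (Or.inr rfl)

theorem card_SylFive : Nat.card SylFive = 25 := by
  refine le_antisymm ?_ ?_
  · let f : Fin 5 × Fin 5 → SylFive := fun p => ⟨gA ^ p.1.1 * gB ^ p.2.1,
      mul_mem (pow_mem gA_SylFive _) (pow_mem gB_SylFive _)⟩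
    have hs : Function.Surjective f := fun g => by
      obtain ⟨i, hi, j, hj, e⟩ := mem_SylFive g.2
      exact ⟨(⟨i, hi⟩, ⟨j, hj⟩), Subtype.ext e.symm⟩
    simpa using Nat.card_le_card_of_surjective f hs
  · have hnd := smisc.five_nodup
    let f : Fin 25 → SylFive := fun t => ⟨gA ^ (t.1 / 5) * gB ^ (t.1 % 5),
      mul_mem (pow_mem gA_SylFive _) (pow_mem gB_SylFive _)⟩
    have hf : Function.Injective f := fun s t hst => by
      have e : wp (five (s.1 / 5) (s.1 % 5)) = wp (five (t.1 / 5) (t.1 % 5)) := by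
        rw [wp_five, wp_five]; exact congrArg Subtype.val hst
      have ex : ∀ p, p < 1782 → wv (five (s.1 / 5) (s.1 % 5)) p = wv (five (t.1 / 5) (t.1 % 5)) p := by
        intro p hp
        have a := wp_pt five_lt hp (w := five (s.1 / 5) (s.1 % 5))
        have b := wp_pt five_lt hp (w := five (t.1 / 5) (t.1 % 5))
        rw [e] at a
        exact pt_inj a.2 b.2 (a.1.symm.trans b.1)
      refine Fin.ext ((List.Nodup.getElem_inj_iff hnd (hi := by simpa using s.2) (hj := by simpa using t.2)).1 ?_)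
      simp only [List.getElem_map, List.getElem_range, ex _ smisc.p1, ex _ smisc.p2]
    simpa using Nat.card_le_card_of_injective f hf

/-- The root set. -/
noncomputable def F0 : Finset V := set' SylData.root

/-- The stabiliser of the root set. -/
noncomputable def setStab : Subgroup (Equiv.Perm V) where
  carrier := {g | g ∈ JN ∧ img g F0 = F0}
  one_mem' := ⟨one_mem _, img_one _⟩
  mul_mem' := fun ha hb => ⟨mul_mem ha.1 hb.1, by rw [img_mul, hb.2, ha.2]⟩
  inv_mem' := fun ha => ⟨inv_mem ha.1, img_inv ha.2⟩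

/-- The group generated by the words fixing the root set. -/
noncomputable def stabWords : Subgroup (Equiv.Perm V) := Subgroup.closure (wp '' {w | w ∈ stabGens.map Prod.fst})

theorem stabWords_le : stabWords ≤ setStab := by
  rw [stabWords, Subgroup.closure_le]
  rintro _ ⟨w, hw, rfl⟩
  obtain ⟨t, ht, rfl⟩ := List.mem_map.1 hw
  exact ⟨word_JN (stab_ok ht).1 (stab_ok ht).2,
    sstep_spec (six_small (stab_ok ht).1) smisc.root_lt smisc.root_lt (smisc.stabs t ht)⟩

theorem card_stabWords : 300 ≤ Nat.card stabWords :=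
  nTree.card_le (by
    simp only [PairTree.wordsB, nTree, List.all_eq_true, decide_eq_true_eq]
    intro w hw a ha
    obtain ⟨t, ht, rfl⟩ := List.mem_map.1 hw
    exact six_small (stab_ok ht).1 a ha)
    (fun i hi => allFrom_spec nTree_ok i (Nat.zero_le _) (by simpa [nTree] using hi))
    smisc.pairRoot_lt stabWords fun w hw => Subgroup.subset_closure ⟨w, hw, rfl⟩

theorem tree_reach : ∀ i < 2016, ∃ g ∈ JN, img g F0 = set' i := by
  intro i
  induction' hd : depth.get 8 i using Nat.strong_induction_on with d ih generalizing i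
  intro hi
  by_cases hr : i = SylData.root
  · subst hr; exact ⟨1, one_mem _, img_one _⟩
  have h := row i hi
  simp only [SylData.rowB, Bool.and_eq_true, Bool.or_eq_true] at h
  rcases h.1.1.1 with e | ⟨⟨⟨h1, h2⟩, h3⟩, h4⟩
  · exact absurd (Nat.eq_of_beq_eq_true e) hr
  obtain ⟨g, hg, eg⟩ := ih _ (hd ▸ Nat.le_of_ble_eq_true h2) _ rfl (Nat.le_of_ble_eq_true h1)
  have hw : jWords.getD (plet.get 8 i) [] ∈ jWords := by
    rw [List.getD_eq_getElem _ _ (by rw [smisc.jlen]; exact Nat.le_of_ble_eq_true h3)]; exact List.getElem_mem _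
  have hok := smisc.words (jWords.getD (plet.get 8 i) []) (by
    simp only [List.mem_append, List.mem_cons]; exact Or.inl (Or.inr (Or.inr hw)))
  exact ⟨_, mul_mem (word_JN hok.1 hok.2) hg, by
    rw [img_mul, eg, sstep_spec (six_small hok.1) (Nat.le_of_ble_eq_true h1) hi h4]⟩

/-- The orbit of the root set and its stabiliser. -/
theorem orbit_setStab : {s | ∃ g ∈ JN, img g F0 = s} = set' '' Set.Iio 2016 ∧ Nat.card setStab = 300 ∧
    stabWords = setStab := by
  have h := img_orbit_card JN F0 setStab (fun g hg => hg.1) fun g hg => ⟨fun e => ⟨hg, e⟩, fun e => e.2⟩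
  rw [card_JN] at h
  have hsub : set' '' Set.Iio 2016 ⊆ {s | ∃ g ∈ JN, img g F0 = s} := by
    rintro _ ⟨i, hi, rfl⟩; exact tree_reach i hi
  have himg : (set' '' Set.Iio 2016).ncard = 2016 := by
    rw [Set.InjOn.ncard_image (fun i hi k hk => set'_inj (Set.mem_Iio.1 hi) (Set.mem_Iio.1 hk)), ← Finset.coe_Iio,
      Set.ncard_coe_finset, Nat.card_Iio]
  have h1 := Set.ncard_le_ncard hsub (Set.toFinite _)
  rw [himg] at h1
  have h2 := card_stabWords.trans (Subgroup.card_le_of_le stabWords_le)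
  have h3 : {s | ∃ g ∈ JN, img g F0 = s}.ncard = 2016 := by
    by_contra hne
    have := Nat.mul_lt_mul_of_lt_of_le (lt_of_le_of_ne h1 (Ne.symm hne)) h2 (by norm_num)
    omega
  rw [h3] at h
  have h300 : Nat.card setStab = 300 := by omega
  refine ⟨(Set.eq_of_subset_of_ncard_le hsub (by rw [himg, h3]) (Set.toFinite _)).symm, h300,
    Subgroup.eq_of_le_of_card_ge stabWords_le (h300 ▸ card_stabWords)⟩

/-- The stabiliser of the root set normalises the subgroup of order 25. -/
theorem conj_SylFive {n : Equiv.Perm V} (hn : n ∈ setStab) : ∀ p ∈ SylFive, n * p * n⁻¹ ∈ SylFive := by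
  rw [← orbit_setStab.2.2] at hn
  induction hn using Subgroup.closure_induction with
  | mem x hx =>
    obtain ⟨w, hw, rfl⟩ := hx
    obtain ⟨t, ht, rfl⟩ := List.mem_map.1 hw
    have key : wp t.1 * gA = gA ^ t.2.1.1 * gB ^ t.2.1.2 * wp t.1 ∧
        wp t.1 * gB = gA ^ t.2.2.1 * gB ^ t.2.2.2 * wp t.1 := by
      rw [← wp_five, ← wp_five, gA, gB, ← wp_append, ← wp_append, ← wp_append, ← wp_append]
      refine ⟨?_, ?_⟩ <;>
      · refine wp_eq_of_check (fun x hx => ?_) (fun x hx => ?_) fun c hc => ?_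
        · rcases List.mem_append.1 hx with h | h
          · exact six_small (stab_ok ht).1 x h
          · first | exact la' x h | exact lb' x h
        · rcases List.mem_append.1 hx with h | h
          · exact five_lt x h
          · exact six_small (stab_ok ht).1 x h
        · first
            | exact ((relAt c hc).2.2.2.1 t ht).1
            | exact ((relAt c hc).2.2.2.1 t ht).2
    intro p hp
    obtain ⟨i, -, j, -, rfl⟩ := mem_SylFive hp
    rw [show wp t.1 * (gA ^ i * gB ^ j) * (wp t.1)⁻¹ =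
      (wp t.1 * gA * (wp t.1)⁻¹) ^ i * (wp t.1 * gB * (wp t.1)⁻¹) ^ j by rw [conj_pow, conj_pow]; group]
    refine mul_mem (pow_mem ?_ _) (pow_mem ?_ _)
    · rw [key.1, mul_inv_cancel_right]; exact mul_mem (pow_mem gA_SylFive _) (pow_mem gB_SylFive _)
    · rw [key.2, mul_inv_cancel_right]; exact mul_mem (pow_mem gA_SylFive _) (pow_mem gB_SylFive _)
  | one => intro p hp; simpa using hp
  | mul x y _ _ ihx ihy =>
    intro p hp
    rw [show x * y * p * (x * y)⁻¹ = x * (y * p * y⁻¹) * x⁻¹ by group]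
    exact ihx _ (ihy p hp)
  | inv x _ ih =>
    intro p hp
    let φ : SylFive → SylFive := fun q => ⟨x * q.1 * x⁻¹, ih q.1 q.2⟩
    have hφ : Function.Injective φ := fun a b h =>
      Subtype.ext ((mul_right_inj x).1 ((mul_left_inj x⁻¹).1 (congrArg Subtype.val h)))
    obtain ⟨q, hq⟩ := (Finite.injective_iff_surjective.1 hφ) ⟨p, hp⟩
    have e : x * q.1 * x⁻¹ = p := congrArg Subtype.val hq
    rw [← e, inv_inv, show x⁻¹ * (x * q.1 * x⁻¹) * x = q.1 by group]
    exact q.2

theorem r79 : InN (pt 79) ∧ pt 79 ≠ n0 := by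
  refine ⟨?_, fun e => absurd (pt_inj (by norm_num) (by norm_num) e : (79 : ℕ) = 47) (by norm_num)⟩
  unfold InN; rw [pt_val (by norm_num)]; decide +kernel

theorem r72 : InN (pt 72) ∧ pt 72 ≠ n0 := by
  refine ⟨?_, fun e => absurd (pt_inj (by norm_num) (by norm_num) e : (72 : ℕ) = 47) (by norm_num)⟩
  unfold InN; rw [pt_val (by norm_num)]; decide +kernel

/-- A point of the graph class of a representative is in its orbit. -/
theorem class_orbit : ∀ c < 1782, ∃ j ∈ JN, j (pt (GraphData.nReps.getD (GraphData.nCls.get 8 c) 0)) = pt c := by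
  intro c
  induction' hd : GraphData.nDep.get 8 c using Nat.strong_induction_on with d ih generalizing c
  intro hc
  have h := allFrom_spec nClass_ok c (Nat.zero_le _) (by omega)
  simp only [classB, Bool.and_eq_true, Bool.or_eq_true, List.all_eq_true] at h
  obtain ⟨⟨⟨-, hl⟩, hstep⟩, hws⟩ := h
  rcases hstep with e | ⟨e1, e2⟩
  · exact ⟨1, one_mem _, by rw [Equiv.Perm.one_apply, ← Nat.eq_of_beq_eq_true e]⟩
  set w := GraphData.nWords.getD (GraphData.nLet.get 8 c) [] with hw
  have hwm : w ∈ GraphData.nWords := by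
    rw [hw, List.getD_eq_getElem _ _ (Nat.le_of_ble_eq_true hl)]; exact List.getElem_mem _
  obtain ⟨⟨hl10, h0⟩, hfb⟩ := hws _ hwm
  have hl' : ∀ x ∈ w, x < 10 := fun x hx => Nat.le_of_ble_eq_true (hl10 x hx)
  have hwJ : wp w ∈ JN :=
    ⟨(suborbit_stab _ (wp_mem_SuzP _)).1 (Fin.ext ((wp_apply hl' 0).trans (Nat.eq_of_beq_eq_true h0))),
      by rw [n0, (wp_pt hl' (by norm_num)).1, Nat.eq_of_beq_eq_true hfb]⟩
  obtain ⟨ec, hlt⟩ := wp_pt hl' hc
  obtain ⟨j, hj, ej⟩ := ih _ (hd ▸ Nat.le_of_ble_eq_true e1) _ rfl hlt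
  rw [Nat.eq_of_beq_eq_true e2] at ej
  exact ⟨(wp w)⁻¹ * j, mul_mem (inv_mem hwJ) hj, by rw [Equiv.Perm.mul_apply, ej, ← ec]; simp⟩

theorem class_counts : ((List.range 6).all fun k => Nat.beq ((List.range 1782).countP fun c =>
      Nat.beq (GraphData.nCls.get 8 c) k && Suz.Act0.part2.memB c) ([0, 1, 100, 315, 0, 0].getD k 0)) = true ∧
    GraphData.nReps.getD 2 0 = 79 ∧ GraphData.nReps.getD 3 0 = 72 := by
  decide +kernel

/-- The two orbits on the other points of the orbit of length 416. -/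
theorem orbits_N : {c | ∃ g ∈ JN, g (pt 79) = c}.ncard = 100 ∧ {c | ∃ g ∈ JN, g (pt 72) = c}.ncard = 315 ∧
    (∀ g ∈ JN, g (pt 79) ≠ pt 72) ∧
    ∀ c, InN c → c ≠ n0 → (∃ g ∈ JN, g (pt 79) = c) ∨ ∃ g ∈ JN, g (pt 72) = c := by
  classical
  obtain ⟨hcnt, e2, e3⟩ := class_counts
  simp only [List.all_eq_true, List.mem_range] at hcnt
  have hA : ∀ k, k < 6 → (Finset.univ.filter fun v : V => GraphData.nCls.get 8 v.1 = k ∧ InN v).card =
      [0, 1, 100, 315, 0, 0].getD k 0 := by
    intro k hk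
    rw [← Nat.eq_of_beq_eq_true (hcnt k hk), List.countP_eq_length_filter,
      ← List.toFinset_card_of_nodup (List.nodup_range.filter _), ← Finset.card_image_of_injective _ Fin.val_injective]
    congr 1
    ext q
    simp only [Finset.mem_image, Finset.mem_filter, Finset.mem_univ, true_and, List.mem_toFinset, List.mem_filter,
      List.mem_range, Bool.and_eq_true]
    constructor
    · rintro ⟨v, ⟨h1, h2⟩, rfl⟩
      exact ⟨v.2, by rw [h1, Nat.beq_refl], h2⟩
    · rintro ⟨h0, h1, h2⟩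
      exact ⟨⟨q, h0⟩, ⟨Nat.eq_of_beq_eq_true h1, h2⟩, rfl⟩
  have hin : ∀ k (v : V), GraphData.nCls.get 8 v.1 = k → ∃ j ∈ JN, j (pt (GraphData.nReps.getD k 0)) = v := by
    intro k v hk
    obtain ⟨j, hj, e⟩ := class_orbit v.1 v.2
    rw [hk, pt_self] at e
    exact ⟨j, hj, e⟩
  set A := {c | ∃ g ∈ JN, g (pt 79) = c} with hAdef
  set B := {c | ∃ g ∈ JN, g (pt 72) = c} with hBdef
  have hsubA : ((Finset.univ.filter fun v : V => GraphData.nCls.get 8 v.1 = 2 ∧ InN v : Finset V) : Set V) ⊆ A := by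
    intro v hv
    rw [Finset.mem_coe, Finset.mem_filter] at hv
    have := hin 2 v hv.2.1; rwa [e2] at this
  have hsubB : ((Finset.univ.filter fun v : V => GraphData.nCls.get 8 v.1 = 3 ∧ InN v : Finset V) : Set V) ⊆ B := by
    intro v hv
    rw [Finset.mem_coe, Finset.mem_filter] at hv
    have := hin 3 v hv.2.1; rwa [e3] at this
  have a1 := Set.ncard_le_ncard hsubA (Set.toFinite _)
  have b1 := Set.ncard_le_ncard hsubB (Set.toFinite _)
  rw [Set.ncard_coe_finset, hA 2 (by norm_num)] at a1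
  rw [Set.ncard_coe_finset, hA 3 (by norm_num)] at b1
  simp only [List.getD_cons_zero, List.getD_cons_succ] at a1 b1
  have hin' : ∀ r, InN (pt r) → pt r ≠ n0 → {c | ∃ g ∈ JN, g (pt r) = c} ⊆ {c | InN c} \ {n0} := by
    rintro r hN hne _ ⟨g, hg, rfl⟩
    exact ⟨(inN_map hg.1 _).2 hN, fun e => hne (g.injective (e.trans hg.2.symm))⟩
  have h415 : ({c | InN c} \ {n0} : Set V).ncard = 415 := by
    rw [Set.ncard_diff_singleton_of_mem (show n0 ∈ {c | InN c} from n0_InN), ncard_N]
  have hdvd : A.ncard ∣ 604800 := by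
    let K : Subgroup (Equiv.Perm V) :=
      { carrier := {g | g ∈ JN ∧ g (pt 79) = pt 79}
        one_mem' := ⟨one_mem _, rfl⟩
        mul_mem' := fun ha hb => ⟨mul_mem ha.1 hb.1, by rw [Equiv.Perm.mul_apply, hb.2, ha.2]⟩
        inv_mem' := fun ha => ⟨inv_mem ha.1, Equiv.Perm.inv_eq_iff_eq.2 ha.2.symm⟩ }
    exact card_JN ▸ ⟨_, (point_orbit_card JN (pt 79) K (fun g hg => hg.1) fun g hg =>
      ⟨fun e => ⟨hg, e⟩, fun e => e.2⟩).symm⟩
  have hdis : ∀ g ∈ JN, g (pt 79) ≠ pt 72 := by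
    intro g hg e
    have hBA : B ⊆ A := by
      rintro _ ⟨h, hh, rfl⟩
      exact ⟨h * g, mul_mem hh hg, by rw [Equiv.Perm.mul_apply, e]⟩
    have h2 := Set.ncard_le_ncard (Set.union_subset hsubA (hsubB.trans hBA)) (Set.toFinite _)
    rw [← Finset.coe_union, Set.ncard_coe_finset, Finset.card_union_of_disjoint (by
      rw [Finset.disjoint_filter]; intro v _ h1 h3; omega), hA 2 (by norm_num), hA 3 (by norm_num)] at h2
    simp only [List.getD_cons_zero, List.getD_cons_succ] at h2
    have h3 := Set.ncard_le_ncard (hin' 79 r79.1 r79.2) (Set.toFinite _)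
    rw [h415] at h3
    have : A.ncard = 415 := le_antisymm h3 h2
    rw [this] at hdvd
    norm_num at hdvd
  have hAB : Disjoint A B := Set.disjoint_left.2 fun v ⟨g, hg, eg⟩ ⟨h, hh, eh⟩ =>
    hdis (h⁻¹ * g) (mul_mem (inv_mem hh) hg) (by rw [Equiv.Perm.mul_apply, eg, ← eh]; simp)
  have hu : A ∪ B ⊆ {c | InN c} \ {n0} := Set.union_subset (hin' 79 r79.1 r79.2) (hin' 72 r72.1 r72.2)
  have h3 := Set.ncard_le_ncard hu (Set.toFinite _)
  rw [Set.ncard_union_eq hAB (Set.toFinite _) (Set.toFinite _), h415] at h3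
  have heq := Set.eq_of_subset_of_ncard_le hu (by
    rw [Set.ncard_union_eq hAB (Set.toFinite _) (Set.toFinite _), h415]; omega) (Set.toFinite _)
  refine ⟨by omega, by omega, hdis, fun c hc hne => ?_⟩
  have : c ∈ A ∪ B := by rw [heq]; exact ⟨hc, hne⟩
  exact this

/-- The group moves the representatives as far as the stabiliser of two points does. -/
def Trans (K : Subgroup (Equiv.Perm V)) : Prop :=
  ∀ j ∈ JN, ∀ r, (r = pt 79 ∨ r = pt 72) → ∃ k ∈ K, k r = j r

/-- A subgroup contains the conjugates of the subgroup of order 25 with index `i`. -/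
def Sits (K : Subgroup (Equiv.Perm V)) (i : ℕ) : Prop :=
  ∀ g ∈ JN, img g F0 = set' i → g * gA * g⁻¹ ∈ K ∧ g * gB * g⁻¹ ∈ K

theorem case_trans (r : ℕ) (hr : r < 21) {K : Subgroup (Equiv.Perm V)} (hK : K ≤ JN) (hP : SylFive ≤ K)
    (hs : ∀ p ∈ cases.getD r [], Sits K p.1) : Trans K := by
  have hh := allFrom_spec heads_ok r (Nat.zero_le _) (by omega)
  simp only [caseB, List.all_eq_true, Bool.and_eq_true] at hh
  have hgens : ∀ w ∈ caseGens r, wp w ∈ K ∧ (∀ a ∈ w, a < 6) := by
    intro w hw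
    simp only [caseGens, List.mem_cons, List.mem_flatten, List.mem_map] at hw
    rcases hw with rfl | rfl | ⟨l, ⟨p, hp, rfl⟩, hw⟩
    · exact ⟨hP gA_SylFive, wa_ok.1⟩
    · exact ⟨hP gB_SylFive, wb_ok.1⟩
    obtain ⟨⟨⟨hu6, hu47⟩, hi⟩, hstep⟩ := hh p hp
    have hu : ∀ a ∈ p.2, a < 6 := fun a ha => Nat.le_of_ble_eq_true (hu6 a ha)
    have hi' : p.1 < 2016 := Nat.le_of_ble_eq_true hi
    obtain ⟨sA, sB⟩ := hs p hp (wp p.2) (word_JN hu (Nat.eq_of_beq_eq_true hu47))
      (sstep_spec (six_small hu) smisc.root_lt hi' hstep)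
    have hrev : ∀ a ∈ p.2.reverse, a < 6 := fun a ha => hu a (List.mem_reverse.1 ha)
    simp only [List.mem_cons, List.not_mem_nil, or_false] at hw
    rcases hw with rfl | rfl
    · refine ⟨by rw [wp_append, wp_append, wp_reverse hu]; exact sA, ?_⟩
      simp only [List.mem_append]
      rintro x ((h | h) | h) <;> [exact hu x h; exact wa_ok.1 x h; exact hrev x h]
    · refine ⟨by rw [wp_append, wp_append, wp_reverse hu]; exact sB, ?_⟩
      simp only [List.mem_append]
      rintro x ((h | h) | h) <;> [exact hu x h; exact wb_ok.1 x h; exact hrev x h]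
  have key : ∀ c, c < 1782 → InN (pt c) → pt c ≠ n0 →
      ∃ k ∈ K, k (pt 79) = pt c ∨ k (pt 72) = pt c := by
    intro c
    induction' hd : cDep.get 8 (Nat.add (Nat.mul r 1782) c) using Nat.strong_induction_on with d ih generalizing c
    intro hc hN hne
    have h := allFrom_spec (tree r hr) c (Nat.zero_le _) (by omega)
    simp only [treeB, Bool.and_eq_true, Bool.or_eq_true, Bool.not_eq_true'] at h
    rw [InN, pt_val hc] at hN
    rcases h with (((e | e) | e) | e) | ⟨⟨⟨h1, h2⟩, h3⟩, h4⟩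
    · rw [hN] at e; cases e
    · exact absurd (congrArg pt (Nat.eq_of_beq_eq_true e)) hne
    · exact ⟨1, one_mem _, Or.inl (by rw [Nat.eq_of_beq_eq_true e]; rfl)⟩
    · exact ⟨1, one_mem _, Or.inr (by rw [Nat.eq_of_beq_eq_true e]; rfl)⟩
    set w := (caseGens r).getD (cLet.get 8 (Nat.add (Nat.mul r 1782) c)) [] with hw
    have hwm : w ∈ caseGens r := by
      rw [hw, List.getD_eq_getElem _ _ (Nat.le_of_ble_eq_true h3)]; exact List.getElem_mem _
    obtain ⟨hwK, hw6⟩ := hgens w hwm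
    have hp : cPar.get 16 (Nat.add (Nat.mul r 1782) c) < 1782 := Nat.le_of_ble_eq_true h1
    have epc : wp w (pt (cPar.get 16 (Nat.add (Nat.mul r 1782) c))) = pt c := by
      rw [(wp_pt (six_small hw6) hp).1, Nat.eq_of_beq_eq_true h4]
    obtain ⟨k, hk, hk'⟩ := ih _ (hd ▸ Nat.le_of_ble_eq_true h2) _ rfl hp
      ((inN_map (hK hwK).1 _).1 (by rw [epc, InN, pt_val hc]; exact hN))
      (fun e => hne (by rw [← epc, e]; exact (hK hwK).2))
    refine ⟨wp w * k, mul_mem hwK hk, ?_⟩
    rcases hk' with e | e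
    · exact Or.inl (by rw [Equiv.Perm.mul_apply, e, epc])
    · exact Or.inr (by rw [Equiv.Perm.mul_apply, e, epc])
  intro j hj r' hr'
  have hN : InN (j r') ∧ j r' ≠ n0 := by
    rcases hr' with rfl | rfl
    · exact ⟨(inN_map hj.1 _).2 r79.1, fun e => r79.2 (j.injective (e.trans hj.2.symm))⟩
    · exact ⟨(inN_map hj.1 _).2 r72.1, fun e => r72.2 (j.injective (e.trans hj.2.symm))⟩
  obtain ⟨k, hk, e⟩ := key (j r').1 (j r').2 (by rw [pt_self]; exact hN.1) (by rw [pt_self]; exact hN.2)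
  rw [pt_self] at e
  have hdis := orbits_N.2.2.1
  rcases hr' with rfl | rfl <;> rcases e with e | e
  · exact ⟨k, hk, e⟩
  · exact absurd (by rw [Equiv.Perm.mul_apply, ← e]; simp : (k⁻¹ * j) (pt 79) = pt 72)
      (hdis _ (mul_mem (inv_mem (hK hk)) hj))
  · exact absurd (by rw [Equiv.Perm.mul_apply, e]; simp : (j⁻¹ * k) (pt 79) = pt 72)
      (hdis _ (mul_mem (inv_mem hj) (hK hk)))
  · exact ⟨k, hk, e⟩

/-- The property proved of the sets outside two classes. -/
def Good (i : ℕ) : Prop := ∀ K : Subgroup (Equiv.Perm V), K ≤ JN → SylFive ≤ K → Sits K i → Trans K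

theorem hw_mem {j : ℕ} (hj : j < 2) : wp (hw j) ∈ setStab ∧ ∀ x ∈ hw j, x < 10 := by
  have hlt : j < stabGens.length := by rw [smisc.slen]; exact hj
  have ht : stabGens.getD j ([], (0, 0), 0, 0) ∈ stabGens := by
    rw [List.getD_eq_getElem _ _ hlt]; exact List.getElem_mem _
  exact ⟨stabWords_le (Subgroup.subset_closure ⟨_, List.mem_map.2 ⟨_, ht, rfl⟩, rfl⟩), six_small (stab_ok ht).1⟩

/-- One step down. -/
structure Down (i : ℕ) : Prop where
  lt : nn.get 16 i < 2016
  dep : ndepth.get 8 (nn.get 16 i) < ndepth.get 8 i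
  same : cls.get 8 (nn.get 16 i) = cls.get 8 i
  moves : ∃ h ∈ setStab, img h (set' i) = set' (nn.get 16 i)

theorem rowSpec {i : ℕ} (hi : i < 2016) : cls.get 8 i < 18 ∧ (cls.get 8 i = 0 → i = SylData.root) ∧
    (i = reps.getD (cls.get 8 i) 0 ∨ Down i) := by
  have h := row i hi
  simp only [SylData.rowB, Bool.and_eq_true, Bool.or_eq_true, Bool.not_eq_true'] at h
  obtain ⟨⟨⟨-, hc⟩, hz⟩, hdn⟩ := h
  refine ⟨Nat.le_of_ble_eq_true hc, fun e => ?_, ?_⟩
  · rcases hz with e' | e'
    · rw [e] at e'; cases e'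
    · exact Nat.eq_of_beq_eq_true e'
  · rcases hdn with e | ⟨⟨⟨⟨h1, h2⟩, h3⟩, h4⟩, h5⟩
    · exact Or.inl (Nat.eq_of_beq_eq_true e)
    · exact Or.inr ⟨Nat.le_of_ble_eq_true h1, Nat.le_of_ble_eq_true h3, Nat.eq_of_beq_eq_true h4, _,
        (hw_mem (Nat.le_of_ble_eq_true h2)).1,
        sstep_spec (hw_mem (Nat.le_of_ble_eq_true h2)).2 hi (Nat.le_of_ble_eq_true h1) h5⟩

theorem good_step {i : ℕ} (d : Down i) (h : Good (nn.get 16 i)) : Good i := by
  intro K hK hP hs
  obtain ⟨n, hn, himg⟩ := d.moves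
  let K' : Subgroup (Equiv.Perm V) := K.map ((MulAut.conj n : MulAut (Equiv.Perm V)) : Equiv.Perm V →* Equiv.Perm V)
  have hmem : ∀ g ∈ K, n * g * n⁻¹ ∈ K' := fun g hg => ⟨g, hg, rfl⟩
  have hK'J : K' ≤ JN := by
    rintro _ ⟨g, hg, rfl⟩
    exact mul_mem (mul_mem hn.1 (hK hg)) (inv_mem hn.1)
  have hP' : SylFive ≤ K' := fun p hp => by
    have h1 := conj_SylFive (inv_mem hn) p hp
    have h2 := hmem _ (hP h1)
    rwa [show n * (n⁻¹ * p * n⁻¹⁻¹) * n⁻¹ = p by group] at h2
  have hs' : Sits K' (nn.get 16 i) := fun g hg e => by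
    obtain ⟨a, b⟩ := hs (n⁻¹ * g) (mul_mem (inv_mem hn.1) hg) (by rw [img_mul, e]; exact img_inv himg)
    constructor
    · rw [show g * gA * g⁻¹ = n * (n⁻¹ * g * gA * (n⁻¹ * g)⁻¹) * n⁻¹ by group]; exact hmem _ a
    · rw [show g * gB * g⁻¹ = n * (n⁻¹ * g * gB * (n⁻¹ * g)⁻¹) * n⁻¹ by group]; exact hmem _ b
  have ht := h K' hK'J hP' hs'
  intro j hj r hr
  obtain ⟨k1, hk1, e1⟩ := ht (n * j) (mul_mem hn.1 hj) r hr
  obtain ⟨k2, hk2, e2⟩ := ht n hn.1 r hr
  obtain ⟨a1, ha1, rfl⟩ := hk1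
  obtain ⟨a2, ha2, rfl⟩ := hk2
  refine ⟨a1 * a2⁻¹, mul_mem ha1 (inv_mem ha2), ?_⟩
  simp only [MulEquiv.coe_toMonoidHom, MulAut.conj_apply, Equiv.Perm.mul_apply] at e1 e2
  have x1 : a1 (n⁻¹ r) = j r := n.injective e1
  have x2 : a2 (n⁻¹ r) = r := n.injective e2
  rw [Equiv.Perm.mul_apply, show a2⁻¹ r = n⁻¹ r from Equiv.Perm.inv_eq_iff_eq.2 x2.symm, x1]

/-- The facts about the classes. -/
theorem classes_spec : special = 1 ∧
    (∀ c < 18, c ≠ 0 → c ≠ special → ∃ r < 21, ∃ u, cases.getD r [] = [(reps.getD c 0, u)]) ∧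
    (((cases.take 5).map fun cs => [(cs.getD 0 (0, [])).1, (cs.getD 1 (0, [])).1]).flatten).Nodup ∧
    (∀ r < 5, ∃ p q : ℕ × List ℕ, cases.getD r [] = [p, q] ∧ cls.get 8 p.1 = special ∧ cls.get 8 q.1 = special) ∧
    ((List.range 2016).countP fun q => Nat.beq (cls.get 8 q) special) = 15 := by
  have h := SylData.classes_ok
  simp only [SylData.classesB, Bool.and_eq_true, List.all_eq_true] at h
  obtain ⟨⟨⟨⟨⟨h0, h1⟩, h2⟩, h3⟩, h4⟩, h5⟩ := h
  have hlen : cases.length = 21 := Nat.eq_of_beq_eq_true h1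
  refine ⟨Nat.eq_of_beq_eq_true h0, fun c hc n0' ns => ?_, nodupB_spec h3, fun r hr => ?_, Nat.eq_of_beq_eq_true h5⟩
  · have := allFrom_spec h2 c (Nat.zero_le _) (by omega)
    simp only [Bool.or_eq_true, List.any_eq_true, Bool.and_eq_true] at this
    rcases this with (e | e) | ⟨cs, hcs, e1, e2⟩
    · exact absurd (Nat.eq_of_beq_eq_true e) n0'
    · exact absurd (Nat.eq_of_beq_eq_true e) ns
    · obtain ⟨r, hr, rfl⟩ := List.getElem_of_mem hcs
      obtain ⟨p, hp⟩ := List.length_eq_one_iff.1 (Nat.eq_of_beq_eq_true e1)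
      refine ⟨r, hlen ▸ hr, p.2, ?_⟩
      rw [List.getD_eq_getElem _ _ hr, hp]
      rw [hp] at e2
      rw [← Nat.eq_of_beq_eq_true e2]
      rfl
  · have hr' : r < (cases.take 5).length := by rw [List.length_take, hlen]; omega
    have hm := h4 _ (List.getElem_mem hr')
    rw [List.getElem_take] at hm
    obtain ⟨p, q, hpq⟩ := List.length_eq_two.1 (Nat.eq_of_beq_eq_true hm.1)
    refine ⟨p, q, by rw [List.getD_eq_getElem _ _ (by omega), hpq], ?_, ?_⟩
    · exact Nat.eq_of_beq_eq_true (hm.2 p (by rw [hpq]; simp))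
    · exact Nat.eq_of_beq_eq_true (hm.2 q (by rw [hpq]; simp))

theorem good (i : ℕ) (hi : i < 2016) (h0 : cls.get 8 i ≠ 0) (h1 : cls.get 8 i ≠ special) : Good i := by
  induction' hd : ndepth.get 8 i using Nat.strong_induction_on with d ih generalizing i
  obtain ⟨hc, -, hdn⟩ := rowSpec hi
  rcases hdn with e | dn
  · obtain ⟨r, hr, u, hu⟩ := classes_spec.2.1 _ hc h0 h1
    exact fun K hK hP hs => case_trans r hr hK hP fun p hp => by
      rw [hu, List.mem_singleton] at hp
      subst hp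
      rw [← e]; exact hs
  · exact good_step dn (ih _ (hd ▸ dn.dep) _ dn.lt (by rw [dn.same]; exact h0) (by rw [dn.same]; exact h1) rfl)

/-- **A subgroup of order at least 1800 containing the Sylow 5-subgroup is as transitive as possible.** -/
theorem trans_of_card {K : Subgroup (Equiv.Perm V)} (hK : K ≤ JN) (hP : SylFive ≤ K) (hc : 1800 ≤ Nat.card K) :
    Trans K := by
  classical
  obtain ⟨hsp, -, hnd, hpairs, h15⟩ := classes_spec
  set I : Finset ℕ := (Finset.range 2016).filter fun i => ∃ k ∈ K, img k F0 = set' i with hI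
  have hImem : ∀ i, i ∈ I ↔ i < 2016 ∧ ∃ k ∈ K, img k F0 = set' i := fun i => by simp [hI]
  have hsits : ∀ i ∈ I, Sits K i := by
    intro i hi g hg e
    obtain ⟨-, k, hk, ek⟩ := (hImem i).1 hi
    have hn : k⁻¹ * g ∈ setStab := ⟨mul_mem (inv_mem (hK hk)) hg, by rw [img_mul, e]; exact img_inv ek⟩
    constructor
    · rw [show g * gA * g⁻¹ = k * (k⁻¹ * g * gA * (k⁻¹ * g)⁻¹) * k⁻¹ by group]
      exact mul_mem (mul_mem hk (hP (conj_SylFive hn _ gA_SylFive))) (inv_mem hk)
    · rw [show g * gB * g⁻¹ = k * (k⁻¹ * g * gB * (k⁻¹ * g)⁻¹) * k⁻¹ by group]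
      exact mul_mem (mul_mem hk (hP (conj_SylFive hn _ gB_SylFive))) (inv_mem hk)
  by_cases hbig : ∃ i ∈ I, cls.get 8 i ≠ 0 ∧ cls.get 8 i ≠ special
  · obtain ⟨i, hi, h0, h1⟩ := hbig
    exact good i ((hImem i).1 hi).1 h0 h1 K hK hP (hsits i hi)
  push Not at hbig
  have hcnt := img_orbit_card K F0 (K ⊓ setStab) inf_le_left fun g hg =>
    ⟨fun e => ⟨hg, hK hg, e⟩, fun e => e.2.2⟩
  have hIO : {s | ∃ k ∈ K, img k F0 = s} = set' '' (I : Set ℕ) := by
    refine Set.ext fun s => ⟨fun ⟨k, hk, e⟩ => ?_, ?_⟩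
    · obtain ⟨i, hi, ei⟩ : s ∈ set' '' Set.Iio 2016 := by rw [← orbit_setStab.1]; exact ⟨k, hK hk, e⟩
      exact ⟨i, (hImem i).2 ⟨hi, k, hk, e.trans ei.symm⟩, ei⟩
    · rintro ⟨i, hi, rfl⟩; exact ((hImem i).1 hi).2
  rw [hIO, Set.InjOn.ncard_image (fun i hi k hk => set'_inj ((hImem i).1 hi).1 ((hImem k).1 hk).1),
    Set.ncard_coe_finset] at hcnt
  have hdv : Nat.card (K ⊓ setStab : Subgroup (Equiv.Perm V)) ∣ 300 :=
    orbit_setStab.2.1 ▸ Subgroup.card_dvd_of_le inf_le_right
  obtain ⟨m, hm⟩ := hdv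
  set C : Finset ℕ := (Finset.range 2016).filter fun q => cls.get 8 q = special with hC
  have hC15 : C.card = 15 := by
    rw [← h15, List.countP_eq_length_filter, ← List.toFinset_card_of_nodup (List.nodup_range.filter _)]
    rw [hC]
    refine congrArg Finset.card (Finset.ext fun q => ?_)
    simp
  have hsub : I ⊆ insert SylData.root C := fun i hi => by
    obtain ⟨hlt, -⟩ := (hImem i).1 hi
    by_cases e : cls.get 8 i = 0
    · exact Finset.mem_insert.2 (Or.inl ((rowSpec hlt).2.1 e))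
    · exact Finset.mem_insert_of_mem (Finset.mem_filter.2 ⟨Finset.mem_range.2 hlt, hbig i hi e⟩)
  suffices h : ∃ r < 5, ∀ p ∈ cases.getD r [], p.1 ∈ I by
    obtain ⟨r, hr, hp⟩ := h
    exact case_trans r (by omega) hK hP fun p hpm => hsits _ (hp p hpm)
  rcases Nat.lt_or_ge m 2 with hm2 | hm2
  · have hall : setStab ≤ K := by
      have h1 : m = 1 := by
        rcases Nat.eq_zero_or_pos m with h | h
        · subst h; omega
        · omega
      subst h1
      have := Subgroup.eq_of_le_of_card_ge (inf_le_right : K ⊓ setStab ≤ setStab) (by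
        rw [orbit_setStab.2.1]; omega)
      exact this ▸ inf_le_left
    have hinv : ∀ h ∈ setStab, ∀ i k, i < 2016 → k < 2016 → img h (set' i) = set' k → (i ∈ I ↔ k ∈ I) := by
      intro h hh i k hi hk e
      rw [hImem, hImem]
      constructor
      · rintro ⟨-, g, hg, eg⟩; exact ⟨hk, h * g, mul_mem (hall hh) hg, by rw [img_mul, eg, e]⟩
      · rintro ⟨-, g, hg, eg⟩
        exact ⟨hi, h⁻¹ * g, mul_mem (inv_mem (hall hh)) hg, by rw [img_mul, eg]; exact img_inv e⟩
    have hdown : ∀ i < 2016, (i ∈ I ↔ reps.getD (cls.get 8 i) 0 ∈ I) := by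
      intro i
      induction' hd : ndepth.get 8 i using Nat.strong_induction_on with d ih generalizing i
      intro hi
      rcases (rowSpec hi).2.2 with e | dn
      · rw [← e]
      · obtain ⟨n, hn, himg⟩ := dn.moves
        rw [hinv n hn i _ hi dn.lt himg, ih _ (hd ▸ dn.dep) _ rfl dn.lt, dn.same]
    obtain ⟨i, hi, hne⟩ : ∃ i ∈ I, i ≠ SylData.root := by
      by_contra hno
      push Not at hno
      have h1 : I.card ≤ 1 :=
        le_trans (Finset.card_le_card fun i hi => Finset.mem_singleton.2 (hno i hi)) (Finset.card_singleton _).le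
      have := Nat.mul_le_mul h1 (Subgroup.card_le_of_le (inf_le_right : K ⊓ setStab ≤ setStab))
      rw [hcnt, orbit_setStab.2.1] at this
      omega
    have hiC : i ∈ C := (Finset.mem_insert.1 (hsub hi)).resolve_left hne
    have hci := (Finset.mem_filter.1 hiC).2
    have hrep : reps.getD special 0 ∈ I := by
      have := (hdown i ((hImem i).1 hi).1).1 hi
      rwa [hci] at this
    obtain ⟨p, q, hpq, hp, hq⟩ := hpairs 0 (by norm_num)
    refine ⟨0, by norm_num, fun x hx => ?_⟩
    have hh := allFrom_spec heads_ok 0 (Nat.zero_le _) (by norm_num)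
    simp only [caseB, List.all_eq_true, Bool.and_eq_true] at hh
    have hlt : x.1 < 2016 := Nat.le_of_ble_eq_true (hh x hx).1.2
    rw [hdown _ hlt]
    rw [hpq] at hx
    simp only [List.mem_cons, List.not_mem_nil, or_false] at hx
    rcases hx with rfl | rfl
    · rw [hp]; exact hrep
    · rw [hq]; exact hrep
  · have h12 : 12 ≤ I.card := by
      by_contra h
      push Not at h
      have h150 : Nat.card (K ⊓ setStab : Subgroup (Equiv.Perm V)) * 2 ≤ 300 :=
        hm.symm ▸ Nat.mul_le_mul_left _ hm2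
      have := Nat.mul_le_mul (Nat.le_of_lt_succ h) (show Nat.card (K ⊓ setStab : Subgroup (Equiv.Perm V)) ≤ 150 by omega)
      rw [hcnt] at this
      omega
    by_contra hno
    push Not at hno
    choose! bad hb1 hb2 using hno
    let f : Fin 5 → ℕ := fun r => (bad r.1).1
    have hmap : ∀ r : Fin 5, f r ∈ C \ I := by
      intro r
      obtain ⟨p, q, hpq, hp, hq⟩ := hpairs r.1 r.2
      have hx := hb1 r.1 r.2
      have hh := allFrom_spec heads_ok r.1 (Nat.zero_le _) (by omega)
      simp only [caseB, List.all_eq_true, Bool.and_eq_true] at hh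
      refine Finset.mem_sdiff.2 ⟨Finset.mem_filter.2 ⟨Finset.mem_range.2 (Nat.le_of_ble_eq_true (hh _ hx).1.2), ?_⟩,
        hb2 r.1 r.2⟩
      rw [hpq] at hx
      simp only [List.mem_cons, List.not_mem_nil, or_false] at hx
      rcases hx with e | e <;>
      · show cls.get 8 (bad r.1).1 = special
        rw [e]
        assumption
    have hf : Function.Injective f := by
      intro r s e
      by_contra hne
      have hlen : cases.length = 21 := by decide +kernel
      have hget : ∀ t : Fin 5, f t ∈ ((cases.take 5).map fun cs => [(cs.getD 0 (0, [])).1, (cs.getD 1 (0, [])).1])[t.1]'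
          (by rw [List.length_map, List.length_take, hlen]; omega) := by
        intro t
        obtain ⟨p, q, hpq, -, -⟩ := hpairs t.1 t.2
        have hx := hb1 t.1 t.2
        rw [hpq] at hx
        rw [List.getD_eq_getElem _ _ (show t.1 < cases.length by omega)] at hpq
        simp only [List.getElem_map, List.getElem_take, hpq, List.getD_cons_zero, List.getD_cons_succ]
        simp only [List.mem_cons, List.not_mem_nil, or_false] at hx ⊢
        rcases hx with e | e
        · exact Or.inl (congrArg Prod.fst e)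
        · exact Or.inr (congrArg Prod.fst e)
      have hp := (List.nodup_flatten.1 hnd).2
      rw [List.pairwise_iff_getElem] at hp
      have hr := hget r
      have hs := hget s
      rcases lt_trichotomy r.1 s.1 with h | h | h
      · exact hp r.1 s.1 (by rw [List.length_map, List.length_take, hlen]; omega)
          (by rw [List.length_map, List.length_take, hlen]; omega) h hr (e ▸ hs)
      · exact hne (Fin.ext h)
      · exact hp s.1 r.1 (by rw [List.length_map, List.length_take, hlen]; omega)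
          (by rw [List.length_map, List.length_take, hlen]; omega) h hs (e ▸ hr)
    have h5 : 5 ≤ (C \ I).card := by
      have := Finset.card_le_card_of_injOn (s := (Finset.univ : Finset (Fin 5))) (t := C \ I) f
        (fun r _ => hmap r) hf.injOn
      simpa using this
    have h1 : I.card ≤ (C ∩ I).card + 1 := by
      refine le_trans (Finset.card_le_card (t := insert SylData.root (C ∩ I)) fun i hi => ?_) (Finset.card_insert_le _ _)
      rcases Finset.mem_insert.1 (hsub hi) with e | e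
      · exact Finset.mem_insert.2 (Or.inl e)
      · exact Finset.mem_insert_of_mem (Finset.mem_inter.2 ⟨e, hi⟩)
    have h2 := Finset.card_sdiff_add_card_inter C I
    omega

theorem pgroup_orbit_mod (L : Subgroup (Equiv.Perm V)) (hL : SylFive ≤ L) (hLX : L ≤ X) :
    {c | ∃ g ∈ L, g n0 = c}.ncard % 5 = 1 := by
  haveI : Fact (Nat.Prime 5) := ⟨by norm_num⟩
  have hP : IsPGroup 5 SylFive := IsPGroup.of_card (n := 2) (by rw [card_SylFive]; norm_num)
  set O := {c | ∃ g ∈ L, g n0 = c} with hO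
  letI A : MulAction SylFive O :=
    { smul := fun p c => ⟨p.1 c.1, by
        obtain ⟨g, hg, e⟩ := c.2
        exact ⟨p.1 * g, mul_mem (hL p.2) hg, by rw [Equiv.Perm.mul_apply, e]⟩⟩
      one_smul := fun c => Subtype.ext rfl
      mul_smul := fun p q c => Subtype.ext rfl }
  have h := hP.card_modEq_card_fixedPoints O
  have hfix : MulAction.fixedPoints SylFive O = {⟨n0, 1, one_mem _, rfl⟩} := by
    refine Set.ext fun c => ⟨fun hc => ?_, ?_⟩
    · have hcN : InN c.1 := by
        obtain ⟨g, hg, e⟩ := c.2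
        rw [← e]; exact (inN_map (hLX hg) _).2 n0_InN
      refine Subtype.ext ?_
      show c.1 = n0
      have fa : gA c.1 = c.1 := congrArg Subtype.val (hc ⟨gA, gA_SylFive⟩)
      have fb : gB c.1 = c.1 := congrArg Subtype.val (hc ⟨gB, gB_SylFive⟩)
      rw [← pt_self c.1] at hcN fa fb ⊢
      rw [gA, (wp_pt la' c.1.2).1] at fa
      rw [gB, (wp_pt lb' c.1.2).1] at fb
      rcases (relAt c.1.1 c.1.2).2.2.2.2 hcN with e | e | e
      · rw [e]; rfl
      · exact absurd (pt_inj (wp_pt la' c.1.2).2 c.1.2 fa) e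
      · exact absurd (pt_inj (wp_pt lb' c.1.2).2 c.1.2 fb) e
    · rintro rfl p
      exact Subtype.ext (SylFive_le p.2).2
  rw [hfix] at h
  have h1 : Nat.card ({⟨n0, 1, one_mem _, rfl⟩} : Set O) = 1 := by
    rw [Nat.card_coe_set_eq, Set.ncard_singleton]
  rw [h1, Nat.card_coe_set_eq] at h
  exact h

/-- **A subgroup of index 416 fixes a point of the orbit of length 416.** -/
theorem stab_of_index_N (L : Subgroup (Equiv.Perm V)) (hLX : L ≤ X) (hL : Nat.card L = 604800) :
    ∃ n, InN n ∧ ∀ g ∈ L, g n = n := by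
  haveI : Fact (Nat.Prime 5) := ⟨by norm_num⟩
  obtain ⟨x, hx, hxP⟩ := conj_le L hLX (p := 5) (k := 2) SylFive (fun g hg => (SylFive_le hg).1)
    (by rw [card_SylFive]; norm_num) (by norm_num) (by rw [hL]; norm_num)
  let L' : Subgroup (Equiv.Perm V) := L.comap (MulAut.conj x).toMonoidHom
  have hL'X : L' ≤ X := fun g hg => by
    have hgx : x * g * x⁻¹ ∈ X := hLX hg
    have := mul_mem (mul_mem (inv_mem hx) hgx) hx
    simpa [mul_assoc] using this
  have hL'card : Nat.card L' = 604800 := by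
    have e : L' = L.map ((MulAut.conj x).symm : Equiv.Perm V →* Equiv.Perm V) :=
      Subgroup.comap_equiv_eq_map_symm (MulAut.conj x) L
    rw [e, Subgroup.card_map_of_injective (MulAut.conj x).symm.injective, hL]
  have hPL : SylFive ≤ L' := fun s hs => hxP s hs
  have hcnt := point_orbit_card L' n0 (L' ⊓ JN) inf_le_left fun g hg =>
    ⟨fun e => ⟨hg, hL'X hg, e⟩, fun e => e.2.2⟩
  rw [hL'card] at hcnt
  have hmod := pgroup_orbit_mod L' hPL hL'X
  set O := {c | ∃ g ∈ L', g n0 = c} with hO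
  have hON : O ⊆ {c | InN c} := by
    rintro _ ⟨g, hg, rfl⟩; exact (inN_map (hL'X hg) _).2 n0_InN
  have hle := Set.ncard_le_ncard hON (Set.toFinite _)
  rw [ncard_N] at hle
  obtain ⟨d, hd⟩ : 25 ∣ Nat.card (L' ⊓ JN : Subgroup (Equiv.Perm V)) :=
    card_SylFive ▸ Subgroup.card_dvd_of_le (le_inf hPL SylFive_le)
  rw [hd] at hcnt
  have h24 : O.ncard * d = 24192 := by
    have : 25 * (O.ncard * d) = 25 * 24192 := by rw [← mul_assoc, mul_comm 25, mul_assoc, hcnt]
    omega
  have h336 : O.ncard ≤ 336 := by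
    by_contra hgt
    push Not at hgt
    have hd1 : d * 337 ≤ 24192 := by
      rw [← h24, mul_comm O.ncard]; exact Nat.mul_le_mul_left _ hgt
    have hd2 : 24192 ≤ d * 416 := by
      rw [← h24, mul_comm O.ncard]; exact Nat.mul_le_mul_left _ hle
    have hd3 : d ≤ 71 := by omega
    have hd4 : 59 ≤ d := by omega
    interval_cases d <;> omega
  have hK : 1800 ≤ Nat.card (L' ⊓ JN : Subgroup (Equiv.Perm V)) := by
    rw [hd]
    by_contra hlt
    push Not at hlt
    have := Nat.mul_le_mul h336 (show d ≤ 71 by omega)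
    omega
  have ht := trans_of_card (inf_le_right : L' ⊓ JN ≤ JN) (le_inf hPL SylFive_le) hK
  obtain ⟨hA, hB, -, hcov⟩ := orbits_N
  have hcl : ∀ r, (r = pt 79 ∨ r = pt 72) → ∀ c, (∃ j ∈ JN, j r = c) → c ∈ O →
      {c | ∃ j ∈ JN, j r = c} ⊆ O := by
    rintro r hr c ⟨j, hj, rfl⟩ ⟨g, hg, eg⟩ _ ⟨j', hj', rfl⟩
    obtain ⟨k, hk, ek⟩ := ht j hj r hr
    obtain ⟨k', hk', ek'⟩ := ht j' hj' r hr
    refine ⟨k' * (k⁻¹ * g), mul_mem hk'.1 (mul_mem (inv_mem hk.1) hg), ?_⟩
    simp only [Equiv.Perm.mul_apply]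
    rw [eg, ← ek]
    simpa using ek'
  have hO1 : O ⊆ {n0} := by
    intro c hc
    by_contra hne
    have hn0 : n0 ∈ O := ⟨1, one_mem _, rfl⟩
    have hun : ∀ r, (r = pt 79 ∨ r = pt 72) → c ∈ {c | ∃ j ∈ JN, j r = c} →
        insert n0 {c | ∃ j ∈ JN, j r = c} ⊆ O :=
      fun r hr hcr => Set.insert_subset hn0 (hcl r hr c hcr hc)
    have hnot : ∀ r, (r = pt 79 ∨ r = pt 72) → n0 ∉ {c | ∃ j ∈ JN, j r = c} := by
      rintro r hr ⟨j, hj, e⟩
      have : r = n0 := j.injective (e.trans hj.2.symm)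
      rcases hr with rfl | rfl
      exacts [r79.2 this, r72.2 this]
    have hOsub : O ⊆ insert n0 ({c | ∃ j ∈ JN, j (pt 79) = c} ∪ {c | ∃ j ∈ JN, j (pt 72) = c}) := by
      intro v hv
      by_cases e : v = n0
      · exact Or.inl e
      · exact Or.inr (hcov v (hON hv) e)
    have hwhole : ∀ r r', (r = pt 79 ∨ r = pt 72) → (r' = pt 79 ∨ r' = pt 72) →
        {c | ∃ j ∈ JN, j r = c} ∪ {c | ∃ j ∈ JN, j r' = c} =
          {c | ∃ j ∈ JN, j (pt 79) = c} ∪ {c | ∃ j ∈ JN, j (pt 72) = c} →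
        c ∈ {c | ∃ j ∈ JN, j r = c} →
        O.ncard = 1 + {c | ∃ j ∈ JN, j r = c}.ncard ∨ O.ncard = 416 := by
      intro r r' hr hr' heq hcr
      by_cases hex : ∃ v ∈ O, v ∈ {c | ∃ j ∈ JN, j r' = c}
      · obtain ⟨v, hv, hv'⟩ := hex
        right
        refine le_antisymm hle ?_
        rw [← ncard_N]
        refine Set.ncard_le_ncard (fun w hw => ?_) (Set.toFinite _)
        by_cases e : w = n0
        · rw [e]; exact hn0
        · have : w ∈ {c | ∃ j ∈ JN, j r = c} ∪ {c | ∃ j ∈ JN, j r' = c} := by rw [heq]; exact hcov w hw e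
          rcases this with h | h
          · exact hcl r hr c hcr hc h
          · exact hcl r' hr' v hv' hv h
      · left
        push Not at hex
        have heqO : O = insert n0 {c | ∃ j ∈ JN, j r = c} := by
          refine Set.Subset.antisymm (fun v hv => ?_) (hun r hr hcr)
          rcases hOsub hv with h | h
          · exact Or.inl h
          · rw [← heq] at h
            exact Or.inr (h.resolve_right (hex v hv))
        rw [heqO, Set.ncard_insert_of_notMem (hnot r hr) (Set.toFinite _), add_comm]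
    have hval : O.ncard = 101 ∨ O.ncard = 316 ∨ O.ncard = 416 := by
      rcases hcov c (hON hc) hne with h | h
      · rcases hwhole _ _ (Or.inl rfl) (Or.inr rfl) rfl h with e | e
        · left; rw [e, hA]
        · exact Or.inr (Or.inr e)
      · rcases hwhole _ _ (Or.inr rfl) (Or.inl rfl) (Set.union_comm _ _) h with e | e
        · right; left; rw [e, hB]
        · exact Or.inr (Or.inr e)
    rcases hval with e | e | e <;> rw [e] at h24 <;> omega
  refine ⟨x n0, (inN_map hx n0).2 n0_InN, fun g hg => ?_⟩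
  have hg' : x⁻¹ * g * x ∈ L' := by
    show x * (x⁻¹ * g * x) * x⁻¹ ∈ L
    simpa [mul_assoc] using hg
  have hf : (x⁻¹ * g * x) n0 = n0 := hO1 ⟨_, hg', rfl⟩
  simp only [Equiv.Perm.mul_apply] at hf
  exact Equiv.Perm.inv_eq_iff_eq.1 hf

end CfsgLib.Spor.SuzThree
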