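import Cfsg.Agent.Lib.Spor.SuzThree.SylDefs

/-!
# The checks of the Sylow 5-subgroups, part 8
-/

set_option autoImplicit false
set_option maxRecDepth 100000
set_option Elab.async false

namespace CfsgLib.Spor.SuzThree.SylData

open CfsgLib.Spor.TC

theorem rels6 : allFrom relsB 594 99 = true := by decide +kernel
theorem rels7 : allFrom relsB 693 99 = true := by decide +kernel
theorem rels8 : allFrom relsB 792 99 = true := by decide +kernel
theorem rels9 : allFrom relsB 891 99 = true := by decide +kernel
theorem rels10 : allFrom relsB 990 99 = true := by decide +kernel
theorem rels11 : allFrom relsB 1089 99 = true := by decide +kernel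

end CfsgLib.Spor.SuzThree.SylData
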