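import Cfsg.Agent.Lib.Spor.SuzThree.FlagDefs
import Cfsg.Agent.Lib.Spor.SuzThree.SylData

/-!
# Sylow 5-subgroups of the stabiliser of two points, as sets of fifteen points
-/

set_option autoImplicit false
set_option maxRecDepth 100000

namespace CfsgLib.Spor.SuzThree

open CfsgLib.Spor.TC
open CfsgLib.Spor.SuzThree.FlagData (nodupB intoB)

/-- A power of a word acting on numbers. -/
noncomputable def pwv (w : List ℕ) (n c : ℕ) : ℕ := Suz.Act0.act.wpow w n c

namespace SylData

/-- The fifteen points. -/
noncomputable def sl (i : ℕ) : List ℕ :=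
  [s0.get 16 i, s1.get 16 i, s2.get 16 i, s3.get 16 i, s4.get 16 i, s5.get 16 i, s6.get 16 i, s7.get 16 i,
    s8.get 16 i, s9.get 16 i, s10.get 16 i, s11.get 16 i, s12.get 16 i, s13.get 16 i, s14.get 16 i]

/-- The code of a set: its first six points. -/
noncomputable def code (i : ℕ) : ℕ :=
  Nat.add (Nat.mul (Nat.add (Nat.mul (Nat.add (Nat.mul (Nat.add (Nat.mul (Nat.add (Nat.mul (s0.get 16 i) 4096)
    (s1.get 16 i)) 4096) (s2.get 16 i)) 4096) (s3.get 16 i)) 4096) (s4.get 16 i)) 4096) (s5.get 16 i)

/-- A word maps the set `i` to the set `k`. -/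
noncomputable def sstepB (w : List ℕ) (i k : ℕ) : Bool := intoB w (sl i) (sl k)

/-- The list is increasing. -/
noncomputable def sortedB (l : List ℕ) : Bool :=
  List.rec (motive := fun _ => Bool) true (fun a t ih => allList (fun b => Nat.blt a b) t && ih) l

/-- The words of the stabiliser of the root set. -/
noncomputable def hw (j : ℕ) : List ℕ := (stabGens.getD j ([], (0, 0), 0, 0)).1

/-- The check of the points of one set. -/
noncomputable def setB (i : ℕ) : Bool :=
  sortedB (sl i) && allList (fun q => Nat.blt q 1782) (sl i) &&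
    (Nat.beq i 0 || Nat.blt (code (Nat.sub i 1)) (code i))

/-- The check at one set. -/
noncomputable def rowB (i : ℕ) : Bool :=
  (Nat.beq i root || Nat.blt (par.get 16 i) 2016 && Nat.blt (depth.get 8 (par.get 16 i)) (depth.get 8 i) &&
      Nat.blt (plet.get 8 i) 2 && sstepB (jWords.getD (plet.get 8 i) []) (par.get 16 i) i) &&
    Nat.blt (cls.get 8 i) 18 && (!(Nat.beq (cls.get 8 i) 0) || Nat.beq i root) &&
    (Nat.beq i (reps.getD (cls.get 8 i) 0) ||
      Nat.blt (nn.get 16 i) 2016 && Nat.blt (nlet.get 8 i) 2 &&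
        Nat.blt (ndepth.get 8 (nn.get 16 i)) (ndepth.get 8 i) &&
        Nat.beq (cls.get 8 (nn.get 16 i)) (cls.get 8 i) && sstepB (hw (nlet.get 8 i)) i (nn.get 16 i))

/-- The generators of a case. -/
noncomputable def caseGens (r : ℕ) : List (List ℕ) :=
  wa :: wb :: ((cases.getD r []).map fun p => [p.2 ++ wa ++ p.2.reverse, p.2 ++ wb ++ p.2.reverse]).flatten

/-- The check of the header of a case. -/
noncomputable def caseB (r : ℕ) : Bool :=
  (cases.getD r []).all fun p =>
    (p.2.all fun a => Nat.blt a 6) && Nat.beq (wv p.2 47) 47 && Nat.blt p.1 2016 && sstepB p.2 root p.1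

/-- The check of the two trees of a case at one point. -/
noncomputable def treeB (r c : ℕ) : Bool :=
  !(Suz.Act0.part2.memB c) || Nat.beq c 47 || Nat.beq c 79 || Nat.beq c 72 ||
    Nat.blt (cPar.get 16 (Nat.add (Nat.mul r 1782) c)) 1782 &&
      Nat.blt (cDep.get 8 (Nat.add (Nat.mul r 1782) (cPar.get 16 (Nat.add (Nat.mul r 1782) c))))
        (cDep.get 8 (Nat.add (Nat.mul r 1782) c)) &&
      Nat.blt (cLet.get 8 (Nat.add (Nat.mul r 1782) c)) (caseGens r).length &&
      Nat.beq (wv ((caseGens r).getD (cLet.get 8 (Nat.add (Nat.mul r 1782) c)) [])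
        (cPar.get 16 (Nat.add (Nat.mul r 1782) c))) c

/-- The pairs of the stabiliser of the root set. -/
noncomputable def nTree : PairTree :=
  ⟨300, pairRoot, sX.get 16, sY.get 16, sPar.get 16, sLet.get 8, sDep.get 8, stabGens.map Prod.fst⟩

/-- The word for a product of powers of the two generators. -/
def five (i j : ℕ) : List ℕ := (List.replicate i wa).flatten ++ (List.replicate j wb).flatten

/-- The relations of the elements used. -/
noncomputable def relsB (c : ℕ) : Bool :=
  Nat.beq (pwv wa 5 c) c && Nat.beq (pwv wb 5 c) c &&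
    Nat.beq (wv (wa ++ wb) c) (wv (wb ++ wa) c) &&
    (stabGens.all fun t =>
      Nat.beq (wv (t.1 ++ wa) c) (wv (five t.2.1.1 t.2.1.2 ++ t.1) c) &&
        Nat.beq (wv (t.1 ++ wb) c) (wv (five t.2.2.1 t.2.2.2 ++ t.1) c)) &&
    (!(Suz.Act0.part2.memB c) || Nat.beq c 47 || !(Nat.beq (wv wa c) c) || !(Nat.beq (wv wb c) c))

/-- The single facts about the elements used. -/
noncomputable def miscB : Bool :=
  ((wa :: wb :: jWords ++ stabGens.map Prod.fst).all fun w => (w.all fun a => Nat.blt a 6) && Nat.beq (wv w 47) 47) &&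
    (stabGens.all fun t => sstepB t.1 root root) &&
    Nat.beq stabGens.length 2 && Nat.beq jWords.length 2 && Nat.blt root 2016 && Nat.beq (cls.get 8 root) 0 &&
    Nat.blt pairRoot 300 &&
    nodupB ((List.range 25).map fun t =>
      Nat.add (Nat.mul (wv (five (t / 5) (t % 5)) pairFive.1) 4096) (wv (five (t / 5) (t % 5)) pairFive.2)) &&
    Nat.blt pairFive.1 1782 && Nat.blt pairFive.2 1782

/-- The facts about the classes. -/
noncomputable def classesB : Bool :=
  Nat.beq special 1 && Nat.beq cases.length 21 &&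
    allFrom (fun c => Nat.beq c 0 || Nat.beq c special ||
      (cases.any fun cs => Nat.beq cs.length 1 && Nat.beq (cs.getD 0 (0, [])).1 (reps.getD c 0))) 0 18 &&
    nodupB (((cases.take 5).map fun cs => [(cs.getD 0 (0, [])).1, (cs.getD 1 (0, [])).1]).flatten) &&
    ((cases.take 5).all fun cs => Nat.beq cs.length 2 && cs.all fun p => Nat.beq (cls.get 8 p.1) special) &&
    Nat.beq ((List.range 2016).countP fun q => Nat.beq (cls.get 8 q) special) 15

end SylData

end CfsgLib.Spor.SuzThree
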